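import Groth.Agent.Lib.Helper25.PolLawCH

/-!
# Symmetric tensors of a free algebra are spanned by the coefficients of the tensor-power law
-/

namespace Groth.Agent.Lib.Helper16.NormLaw

open scoped TensorProduct
open Groth.Agent.Lib.Helper25.PolLawCoeff

universe u

section Perm
variable {J : Type*} {d : ℕ}

theorem ftype_apply_eq_card [DecidableEq J] (c : Fin d → J) (j : J) :
    ftype c j = (Finset.univ.filter (fun i => c i = j)).card := by
  rw [ftype, Finsupp.finsetSum_apply, Finset.card_filter]
  refine Finset.sum_congr rfl fun i _ => ?_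
  rw [Finsupp.single_apply]

theorem exists_perm_of_ftype_eq (c c' : Fin d → J) (h : ftype c = ftype c') :
    ∃ σ : Equiv.Perm (Fin d), c' ∘ σ = c := by
  classical
  have hcard : ∀ j : J, Fintype.card {i // c i = j} = Fintype.card {i // c' i = j} := by
    intro j
    rw [Fintype.card_subtype, Fintype.card_subtype]
    have h1 := ftype_apply_eq_card c j
    have h2 := ftype_apply_eq_card c' j
    rw [h] at h1
    rw [← h1, ← h2]
  let e : ∀ j : J, {i // c i = j} ≃ {i // c' i = j} := fun j => Fintype.equivOfCardEq (hcard j)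
  refine ⟨Equiv.ofFiberEquiv e, ?_⟩
  funext i
  exact Equiv.ofFiberEquiv_map e i

end Perm

section Basis
variable {A : Type u} [CommRing A] {B : Type u} [CommRing B] [Algebra A B] {d : ℕ} {J : Type u}

theorem repr_reindex (bas : Module.Basis J A B) (σ : Equiv.Perm (Fin d))
    (z : ⨂[A] _ : Fin d, B) (c : Fin d → J) :
    (Basis.piTensorProduct (fun _ : Fin d => bas)).repr
        (PiTensorProduct.reindex A (fun _ : Fin d => B) σ z) c =
      (Basis.piTensorProduct (fun _ : Fin d => bas)).repr z (c ∘ σ) := by
  induction z using PiTensorProduct.induction_on with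
  | smul_tprod r f =>
    rw [map_smul, map_smul, map_smul, Finsupp.smul_apply, Finsupp.smul_apply,
      PiTensorProduct.reindex_tprod, Basis.piTensorProduct_repr_tprod_apply,
      Basis.piTensorProduct_repr_tprod_apply]
    congr 1
    rw [← Equiv.prod_comp σ]
    refine Finset.prod_congr rfl fun i _ => ?_
    rw [Equiv.symm_apply_apply]
    rfl
  | add x y hx hy =>
    rw [map_add, map_add, map_add, Finsupp.add_apply, Finsupp.add_apply, hx, hy]

/-- Symmetric tensors over a free algebra lie in the span of the coefficients of the tensor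
power law. -/
theorem mem_coeffSpan_of_mem_TS (bas : Module.Basis J A B) {z : ⨂[A] _ : Fin d, B}
    (hz : z ∈ SymTen.TS A B d) : z ∈ coeffSpan (SymTen.tpowLaw A B d).law := by
  classical
  set bT := Basis.piTensorProduct (fun _ : Fin d => bas) with hbT
  set r := bT.repr z with hr
  have hinv : ∀ (σ : Equiv.Perm (Fin d)) (c : Fin d → J), r (c ∘ σ) = r c := by
    intro σ c
    rw [hr, ← repr_reindex bas σ z c, hz σ]
  have hconst : ∀ c c' : Fin d → J, ftype c = ftype c' → r c = r c' := by
    intro c c' h
    obtain ⟨σ, hσ⟩ := exists_perm_of_ftype_eq c c' h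
    rw [← hσ, hinv]
  set I : Finset J := r.support.biUnion (fun c => Finset.univ.image c) with hI
  have hsub : r.support ⊆ Fintype.piFinset (fun _ : Fin d => I) := by
    intro c hc
    rw [Fintype.mem_piFinset]
    intro j
    rw [hI, Finset.mem_biUnion]
    exact ⟨c, hc, Finset.mem_image_of_mem c (Finset.mem_univ j)⟩
  have hz1 : z = ∑ c ∈ Fintype.piFinset (fun _ : Fin d => I),
      r c • PiTensorProduct.tprod A (fun j => bas (c j)) := by
    conv_lhs => rw [← bT.linearCombination_repr z, Finsupp.linearCombination_apply, Finsupp.sum]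
    rw [← hr]
    rw [Finset.sum_subset hsub]
    · refine Finset.sum_congr rfl fun c _ => ?_
      rw [hbT, Basis.piTensorProduct_apply]
    · intro c _ hc
      rw [Finsupp.notMem_support_iff.1 hc, zero_smul]
  rw [hz1, ← Finset.sum_fiberwise_of_maps_to (s := Fintype.piFinset (fun _ : Fin d => I))
    (t := (Fintype.piFinset (fun _ : Fin d => I)).image ftype) (g := ftype)
    (fun c hc => Finset.mem_image_of_mem _ hc)]
  refine Submodule.sum_mem _ fun ν hν => ?_
  obtain ⟨c₀, hc₀, rfl⟩ := Finset.mem_image.1 hν
  have : ∑ c ∈ Fintype.piFinset (fun _ : Fin d => I) with ftype c = ftype c₀,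
      r c • PiTensorProduct.tprod A (fun j => bas (c j)) =
      r c₀ • coeff (SymTen.tpowLaw A B d).law bas I (ftype c₀) := by
    rw [coeff_tpowLaw, Finset.smul_sum]
    refine Finset.sum_congr rfl fun c hc => ?_
    rw [hconst c c₀ (Finset.mem_filter.1 hc).2]
  rw [this]
  exact Submodule.smul_mem _ _ (coeff_mem_coeffSpan _ _ _ _)

end Basis

end Groth.Agent.Lib.Helper16.NormLaw
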