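import Groth.Agent.Lib.Helper16.NormLaw.BCAlg
import Groth.Agent.Lib.Helper16.NormLaw.SymBasis

/-!
# Base change of tensor powers and points of `TS^d` with values in a base extension (helper16)

* `bcT A A' B d : T^d_A(B) →ₐ[A] T^d_{A'}(A' ⊗ B)`, compatible with permutations and the tensor
  power laws.
* `pointLin`, `pointTS`: if `A' ⊗[A] B` is free over `A'`, every multiplicative law `B → A'` of
  degree `d` over `A` is `θ ∘ tpowLaw` for an `A`-algebra map `θ : TS^d_A(B) → A'`.
-/

set_option autoImplicit false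

namespace Groth.Agent.Lib.Helper16.NormLaw

open scoped TensorProduct
open Groth.Agent.Lib.Helper25.PolLawCoeff

universe u

section BCT
variable (A : Type u) [CommRing A] (A' : Type u) [CommRing A'] [Algebra A A']
  (B : Type u) [CommRing B] [Algebra A B] (d : ℕ)

/-- base change of the tensor power: `b₁ ⊗ ⋯ ⊗ b_d ↦ (1 ⊗ b₁) ⊗ ⋯ ⊗ (1 ⊗ b_d)` -/
noncomputable def bcT : (⨂[A] _ : Fin d, B) →ₐ[A] (⨂[A'] _ : Fin d, A' ⊗[A] B) :=
  PiTensorProduct.liftAlgHom
    (((PiTensorProduct.tprod A').restrictScalars A).compLinearMap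
      fun _ => (Algebra.TensorProduct.includeRight (R := A) (A := A') (B := B)).toLinearMap)
    (by simp [PiTensorProduct.one_def]; rfl)
    (by
      intro x y
      show PiTensorProduct.tprod A' (fun i => (1 : A') ⊗ₜ[A] (x i * y i)) =
        PiTensorProduct.tprod A' (fun i => (1 : A') ⊗ₜ[A] x i) *
          PiTensorProduct.tprod A' (fun i => (1 : A') ⊗ₜ[A] y i)
      rw [PiTensorProduct.tprod_mul_tprod]
      refine congrArg _ (funext fun i => ?_)
      rw [Pi.mul_apply, Algebra.TensorProduct.tmul_mul_tmul, mul_one])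

@[simp]
theorem bcT_tprod (x : Fin d → B) :
    bcT A A' B d (PiTensorProduct.tprod A x) =
      PiTensorProduct.tprod A' (fun i => (1 : A') ⊗ₜ[A] x i) := by
  simp [bcT]

theorem bcT_reindex (σ : Equiv.Perm (Fin d)) (t : ⨂[A] _ : Fin d, B) :
    bcT A A' B d (PiTensorProduct.reindex A (fun _ : Fin d => B) σ t) =
      PiTensorProduct.reindex A' (fun _ : Fin d => A' ⊗[A] B) σ (bcT A A' B d t) := by
  induction t using PiTensorProduct.induction_on with
  | smul_tprod r g =>
    have h1 : bcT A A' B d (r • PiTensorProduct.tprod A g) =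
        algebraMap A A' r • PiTensorProduct.tprod A' (fun i => (1 : A') ⊗ₜ[A] g i) := by
      rw [map_smul, bcT_tprod, algebraMap_smul]
    rw [map_smul, map_smul, PiTensorProduct.reindex_tprod, bcT_tprod, h1, map_smul,
      PiTensorProduct.reindex_tprod, algebraMap_smul]
  | add x y hx hy => simp only [map_add, hx, hy]

theorem bcT_mem_TS {t : ⨂[A] _ : Fin d, B} (ht : t ∈ SymTen.TS A B d) :
    bcT A A' B d t ∈ SymTen.TS A' (A' ⊗[A] B) d := by
  intro σ
  rw [← bcT_reindex, ht σ]

theorem bcT_coeff_tpowLaw {σ : Type u} (m : σ → B) (I : Finset σ) (ν : σ →₀ ℕ) :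
    bcT A A' B d (coeff (SymTen.tpowLaw A B d).law m I ν) =
      coeff (SymTen.tpowLaw A' (A' ⊗[A] B) d).law (fun i => (1 : A') ⊗ₜ[A] m i) I ν := by
  classical
  rw [coeff_tpowLaw, coeff_tpowLaw, map_sum]
  refine Finset.sum_congr rfl fun c _ => ?_
  rw [bcT_tprod]

end BCT

section Point
variable {A : Type u} [CommRing A] {A' : Type u} [CommRing A'] [Algebra A A']
  {B : Type u} [CommRing B] [Algebra A B] {d : ℕ} {J : Type u}
  (bas : Module.Basis J A' (A' ⊗[A] B)) (F : PolLaw.MulLaw A B A' d)

/-- the linear form on `T^d_A(B)` attached to a multiplicative law `B → A'` of degree `d`, when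
`A' ⊗[A] B` is free over `A'` -/
noncomputable def pointLin : (⨂[A] _ : Fin d, B) →ₗ[A] A' :=
  ((linFactor bas (bcMulLawAlg A' F).law d).restrictScalars A) ∘ₗ (bcT A A' B d).toLinearMap

theorem pointLin_apply (t : ⨂[A] _ : Fin d, B) :
    pointLin bas F t = linFactor bas (bcMulLawAlg A' F).law d (bcT A A' B d t) := rfl

theorem pointLin_coeff {σ : Type u} (m : σ → B) (I : Finset σ) (ν : σ →₀ ℕ) :
    pointLin bas F (coeff (SymTen.tpowLaw A B d).law m I ν) = coeff F.law m I ν := by
  rw [pointLin_apply, bcT_coeff_tpowLaw, linFactor_coeff_general bas (bcMulLawAlg A' F)]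
  exact coeff_bcLawAlg A' F.law m I ν

/-- the law `F` is the linear form `pointLin` composed with the tensor power law -/
theorem pointLin_spec :
    PolLaw.postcomp (pointLin bas F) (SymTen.tpowLaw A B d).law = F.law := by
  refine PolynomialLaw.ext ?_
  funext S _ _ y
  obtain ⟨σ, I, s, m, rfl⟩ := exists_sum_tmul S y
  show (pointLin bas F).lTensor S ((SymTen.tpowLaw A B d).law.toFun' S _) = _
  rw [toFun'_sum, toFun'_sum, map_sum]
  simp_rw [LinearMap.lTensor_tmul, pointLin_coeff]
  have hsub : (coeff F.law m I).support ⊆ (coeff (SymTen.tpowLaw A B d).law m I).support := by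
    intro ν hν
    rw [Finsupp.mem_support_iff] at hν ⊢
    intro h0
    apply hν
    rw [← pointLin_coeff bas F, h0, map_zero]
  symm
  apply Finset.sum_subset hsub
  intro ν _ hν
  rw [Finsupp.notMem_support_iff.1 hν, TensorProduct.tmul_zero]

theorem pointLin_one : pointLin bas F 1 = 1 := by
  rw [pointLin_apply, map_one]
  exact linFactor_one bas (bcMulLawAlg A' F)

theorem pointLin_mul {x y : ⨂[A] _ : Fin d, B} (hx : x ∈ SymTen.TS A B d)
    (hy : y ∈ SymTen.TS A B d) :
    pointLin bas F (x * y) = pointLin bas F x * pointLin bas F y := by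
  rw [pointLin_apply, map_mul]
  exact linFactor_mul bas (bcMulLawAlg A' F)
    (mem_coeffSpan_of_mem_TS bas (bcT_mem_TS A A' B d hx))
    (mem_coeffSpan_of_mem_TS bas (bcT_mem_TS A A' B d hy))

/-- the `A'`-valued point of `TS^d_A(B)` attached to a multiplicative law `B → A'` of degree `d` -/
noncomputable def pointTS : SymTen.TS A B d →ₐ[A] A' :=
  AlgHom.ofLinearMap (pointLin bas F ∘ₗ (SymTen.TS A B d).val.toLinearMap) (pointLin_one bas F)
    (fun x y => pointLin_mul bas F x.2 y.2)

theorem pointTS_toLinearMap :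
    (pointTS bas F).toLinearMap = pointLin bas F ∘ₗ (SymTen.TS A B d).val.toLinearMap := rfl

/-- if `φ : C → TS^d(B)` carries the law `γ` to the tensor power law, then `pointTS ∘ φ` carries
`γ` to `F` -/
theorem postcomp_pointTS_comp {C : Type u} [CommRing C] [Algebra A C] (γ : PolLaw.MulLaw A B C d)
    (φ : C →ₐ[A] SymTen.TS A B d)
    (hlaw : PolLaw.postcomp ((SymTen.TS A B d).val.comp φ).toLinearMap γ.law =
      (SymTen.tpowLaw A B d).law) :
    PolLaw.postcomp ((pointTS bas F).comp φ).toLinearMap γ.law = F.law := by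
  rw [← pointLin_spec bas F, ← hlaw]
  refine PolynomialLaw.ext ?_
  funext S _ _ y
  show ((pointTS bas F).comp φ).toLinearMap.lTensor S (γ.law.toFun' S y) =
    (pointLin bas F).lTensor S
      (((SymTen.TS A B d).val.comp φ).toLinearMap.lTensor S (γ.law.toFun' S y))
  rw [← LinearMap.comp_apply, ← LinearMap.lTensor_comp]
  rfl

end Point

end Groth.Agent.Lib.Helper16.NormLaw
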