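import Groth.Agent.Lib.Helper25.PolLawBC

/-!
# Base change of a polynomial law `B → A'` over `A` to a law `A' ⊗ B → A'` over `A'` (helper16)

Variant of helper25's `bcLaw` (which treats laws with values in the base ring `A`): here the law has
values in the `A`-algebra `A'` along which we base change.
-/

set_option autoImplicit false

namespace Groth.Agent.Lib.Helper16.NormLaw

open scoped TensorProduct
open Groth.Agent.Lib.Helper25.PolLawCoeff

universe u

section BCAlg
variable (A : Type u) [CommRing A] {B : Type u} [CommRing B] [Algebra A B]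
  (A' : Type u) [CommRing A'] [Algebra A A']

/-- multiplication `R ⊗[A] A' → R`, `r ⊗ a' ↦ r * a'` -/
noncomputable def mulA (R : Type u) [CommSemiring R] [Algebra A R] [Algebra A' R]
    [IsScalarTower A A' R] : R ⊗[A] A' →ₐ[R] R :=
  Algebra.TensorProduct.lift (Algebra.ofId R R) (IsScalarTower.toAlgHom A A' R)
    (fun _ _ => Commute.all _ _)

theorem mulA_tmul (R : Type u) [CommSemiring R] [Algebra A R] [Algebra A' R]
    [IsScalarTower A A' R] (r : R) (a' : A') :
    mulA A A' R (r ⊗ₜ[A] a') = r * algebraMap A' R a' := by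
  rw [mulA, Algebra.TensorProduct.lift_tmul]
  rfl

theorem mulA_map {S S' : Type u} [CommSemiring S] [Algebra A S] [Algebra A' S]
    [IsScalarTower A A' S] [CommSemiring S'] [Algebra A S'] [Algebra A' S']
    [IsScalarTower A A' S'] (ψ : S →ₐ[A'] S') (z : S ⊗[A] A') :
    mulA A A' S' (Algebra.TensorProduct.map (ψ.restrictScalars A) (AlgHom.id A A') z) =
      ψ (mulA A A' S z) := by
  induction z using TensorProduct.induction_on with
  | zero => simp
  | tmul r c =>
    rw [Algebra.TensorProduct.map_tmul, mulA_tmul, mulA_tmul, AlgHom.id_apply, map_mul,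
      AlgHom.commutes]
    rfl
  | add x y hx hy => simp only [map_add, hx, hy]

variable {A}

/-- the members of the base change of a law `B → A'` along `A → A'` -/
noncomputable def bcFunAlg (F : B →ₚₗ[A] A') (S' : Type u) [CommSemiring S'] [Algebra A' S']
    (z : S' ⊗[A'] (A' ⊗[A] B)) : S' ⊗[A'] A' :=
  letI := algA A A' S'
  haveI := towerA A A' S'
  (Algebra.TensorProduct.rid A' S' S').symm
    (mulA A A' S'
      (F.toFun' S' (Algebra.TensorProduct.cancelBaseChange A A' S' S' B z)))

theorem bcFunAlg_eq (F : B →ₚₗ[A] A') (R : Type u) [CommSemiring R] [iA : Algebra A R]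
    [Algebra A' R] [tw : IsScalarTower A A' R] (z : R ⊗[A'] (A' ⊗[A] B)) :
    bcFunAlg A' F R z = (Algebra.TensorProduct.rid A' R R).symm
      (mulA A A' R
        (F.toFun' R (Algebra.TensorProduct.cancelBaseChange A A' R R B z))) := by
  have h : iA = algA A A' R := by
    apply Algebra.algebra_ext
    intro a
    rw [IsScalarTower.algebraMap_apply A A' R]
    rfl
  subst h
  rfl

theorem bcAlg_natural (F : B →ₚₗ[A] A') {R R' : Type u} [CommSemiring R] [Algebra A R]
    [Algebra A' R] [IsScalarTower A A' R] [CommSemiring R'] [Algebra A R'] [Algebra A' R']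
    [IsScalarTower A A' R'] (φ : R →ₐ[A'] R') (z : R ⊗[A'] (A' ⊗[A] B)) :
    φ.toLinearMap.rTensor A' ((Algebra.TensorProduct.rid A' R R).symm
      (mulA A A' R
        (F.toFun' R (Algebra.TensorProduct.cancelBaseChange A A' R R B z)))) =
    (Algebra.TensorProduct.rid A' R' R').symm
      (mulA A A' R'
        (F.toFun' R' (Algebra.TensorProduct.cancelBaseChange A A' R' R' B
          (φ.toLinearMap.rTensor (A' ⊗[A] B) z)))) := by
  rw [cancel_natural, law_compat_map', mulA_map, Algebra.TensorProduct.rid_symm_apply,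
    Algebra.TensorProduct.rid_symm_apply, LinearMap.rTensor_tmul]
  rfl

/-- the base change of a law `B → A'` along `A → A'` -/
noncomputable def bcLawAlg (F : B →ₚₗ[A] A') : (A' ⊗[A] B) →ₚₗ[A'] A' where
  toFun' S' _ _ := bcFunAlg A' F S'
  isCompat' {S'} _ _ {S''} _ _ φ := by
    funext z
    let := algA A A' S'
    have := towerA A A' S'
    let := algA A A' S''
    have := towerA A A' S''
    exact bcAlg_natural A' F φ z

theorem bcLawAlg_toFun' (F : B →ₚₗ[A] A') (R : Type u) [CommSemiring R] [Algebra A R]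
    [Algebra A' R] [IsScalarTower A A' R] (z : R ⊗[A'] (A' ⊗[A] B)) :
    (bcLawAlg A' F).toFun' R z = (Algebra.TensorProduct.rid A' R R).symm
      (mulA A A' R
        (F.toFun' R (Algebra.TensorProduct.cancelBaseChange A A' R R B z))) :=
  bcFunAlg_eq A' F R z

/-- the base change of a multiplicative law -/
noncomputable def bcMulLawAlg {d : ℕ} (F : PolLaw.MulLaw A B A' d) :
    PolLaw.MulLaw A' (A' ⊗[A] B) A' d where
  law := bcLawAlg A' F.law
  homog := by
    intro S' _ _ s z
    let := algA A A' S'
    have := towerA A A' S'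
    rw [bcLawAlg_toFun', bcLawAlg_toFun', map_smul, F.homog, map_smul, map_smul]
  mult := by
    intro S' _ _
    let := algA A A' S'
    have := towerA A A' S'
    refine ⟨?_, fun x y => ?_⟩
    · rw [bcLawAlg_toFun', map_one, (F.mult S').1, map_one, map_one]
    · rw [bcLawAlg_toFun', bcLawAlg_toFun', bcLawAlg_toFun', map_mul, (F.mult S').2, map_mul,
        map_mul]

/-- coefficients of the base-changed law at a family coming from `B` -/
theorem coeff_bcLawAlg (F : B →ₚₗ[A] A') {σ : Type u} (m : σ → B) (I : Finset σ) (μ : σ →₀ ℕ) :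
    coeff (bcLawAlg A' F) (fun i => (1 : A') ⊗ₜ[A] m i) I μ = coeff F m I μ := by
  classical
  have h1 : Algebra.TensorProduct.cancelBaseChange A A' (MvPolynomial σ A') (MvPolynomial σ A') B
      (gen (A := A') (fun i => (1 : A') ⊗ₜ[A] m i) I) =
      ∑ i ∈ I, (MvPolynomial.X i : MvPolynomial σ A') ⊗ₜ[A] m i := by
    rw [gen, map_sum]
    refine Finset.sum_congr rfl fun i _ => ?_
    rw [Algebra.TensorProduct.cancelBaseChange_tmul, one_smul]
  show tc σ A' ((bcLawAlg A' F).toFun' (MvPolynomial σ A') (gen _ I)) μ = _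
  rw [bcLawAlg_toFun', h1, toFun'_sum, map_sum, map_sum, map_sum, Finsupp.finsetSum_apply]
  simp_rw [mulA_tmul, Algebra.TensorProduct.rid_symm_apply, tc_tmul]
  have h2 : ∀ x : σ →₀ ℕ, (x.prod fun i k => (MvPolynomial.X i : MvPolynomial σ A') ^ k) *
      (algebraMap A' (MvPolynomial σ A')) ((coeff F m I) x) =
      MvPolynomial.monomial x ((coeff F m I) x) := by
    intro x
    rw [MvPolynomial.monomial_eq, mul_comm]
    rfl
  simp_rw [h2, MvPolynomial.coeff_monomial, smul_eq_mul, mul_one]
  rw [Finset.sum_ite_eq']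
  split_ifs with h
  · rfl
  · exact (Finsupp.notMem_support_iff.1 h).symm

end BCAlg

end Groth.Agent.Lib.Helper16.NormLaw
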