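import Mathlib
import Groth.Prelude.Def_SymTen

/-!
# Kernel and surjectivity of the tensor power of a surjective algebra map
-/

namespace Groth.Agent.Lib.Helper16.NormLaw

open scoped TensorProduct

universe u

variable {A : Type u} [CommRing A] {P B : Type u} [CommRing P] [Algebra A P] [CommRing B]
  [Algebra A B] {d : ℕ}

theorem tmap_single (π : P →ₐ[A] B) (k : Fin d) (p : P) :
    SymTen.tmap A d π (PiTensorProduct.singleAlgHom (R := A) (A := fun _ : Fin d => P) k p) =
      PiTensorProduct.singleAlgHom (R := A) (A := fun _ : Fin d => B) k (π p) := by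
  rw [PiTensorProduct.singleAlgHom_apply, PiTensorProduct.singleAlgHom_apply, SymTen.tmap_tprod]
  congr 1
  funext i
  simp only [MonoidHom.mulSingle_apply]
  exact Pi.apply_mulSingle (fun _ => (π : P → B)) (fun _ => map_one π) k p i

theorem tmap_surjective (π : P →ₐ[A] B) (hπ : Function.Surjective π) :
    Function.Surjective (SymTen.tmap A d π) := by
  intro z
  induction z using PiTensorProduct.induction_on with
  | smul_tprod r f =>
    refine ⟨r • PiTensorProduct.tprod A (fun i => Classical.choose (hπ (f i))), ?_⟩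
    rw [map_smul, SymTen.tmap_tprod]
    congr 2
    funext i
    exact Classical.choose_spec (hπ (f i))
  | add x y hx hy =>
    obtain ⟨x', rfl⟩ := hx
    obtain ⟨y', rfl⟩ := hy
    exact ⟨x' + y', map_add _ _ _⟩

/-- the multilinear map `b ↦ ∏ k, g k (b k)` -/
noncomputable def prodML {Q : Type u} [CommRing Q] [Algebra A Q] (g : Fin d → (B →ₐ[A] Q)) :
    MultilinearMap A (fun _ : Fin d => B) Q :=
  (MultilinearMap.mkPiAlgebra A (Fin d) Q).compLinearMap fun k => (g k).toLinearMap

theorem prodML_apply {Q : Type u} [CommRing Q] [Algebra A Q] (g : Fin d → (B →ₐ[A] Q))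
    (b : Fin d → B) : prodML g b = ∏ k, g k (b k) := by
  simp [prodML]

/-- the algebra map out of a tensor power of a commutative algebra given by a family of algebra
maps to a commutative algebra -/
noncomputable def prodLift {Q : Type u} [CommRing Q] [Algebra A Q] (g : Fin d → (B →ₐ[A] Q)) :
    (⨂[A] _ : Fin d, B) →ₐ[A] Q :=
  PiTensorProduct.liftAlgHom (prodML g)
    (by rw [prodML_apply]; simp)
    (by
      intro x y
      rw [prodML_apply, prodML_apply, prodML_apply, ← Finset.prod_mul_distrib]
      exact Finset.prod_congr rfl fun k _ => by rw [Pi.mul_apply, map_mul])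

theorem prodLift_tprod {Q : Type u} [CommRing Q] [Algebra A Q] (g : Fin d → (B →ₐ[A] Q))
    (b : Fin d → B) : prodLift g (PiTensorProduct.tprod A b) = ∏ k, g k (b k) := by
  rw [prodLift, PiTensorProduct.liftAlgHom_apply, PiTensorProduct.lift.tprod, prodML_apply]

theorem prodLift_single {Q : Type u} [CommRing Q] [Algebra A Q] (g : Fin d → (B →ₐ[A] Q))
    (k : Fin d) (b : B) :
    prodLift g (PiTensorProduct.singleAlgHom (R := A) (A := fun _ : Fin d => B) k b) = g k b := by
  rw [PiTensorProduct.singleAlgHom_apply, prodLift_tprod, Finset.prod_eq_single k]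
  · simp
  · intro j _ hj
    simp [Pi.mulSingle_eq_of_ne hj]
  · intro h; exact absurd (Finset.mem_univ k) h

/-- The kernel of the tensor power of a surjection is contained in any ideal containing the
kernels placed in the single slots. -/
theorem ker_tmap_le (π : P →ₐ[A] B) (hπ : Function.Surjective π)
    (K : Ideal (⨂[A] _ : Fin d, P))
    (hK : ∀ (k : Fin d) (i : P), π i = 0 →
      PiTensorProduct.singleAlgHom (R := A) (A := fun _ : Fin d => P) k i ∈ K) :
    RingHom.ker (SymTen.tmap A d π) ≤ K := by
  classical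
  let mkQ : (⨂[A] _ : Fin d, P) →ₐ[A] ((⨂[A] _ : Fin d, P) ⧸ K) := Ideal.Quotient.mkₐ A K
  have H : ∀ k : Fin d, RingHom.ker π.toRingHom ≤
      RingHom.ker (mkQ.comp (PiTensorProduct.singleAlgHom (R := A)
        (A := fun _ : Fin d => P) k)).toRingHom := by
    intro k i hi
    rw [RingHom.mem_ker] at hi ⊢
    show mkQ (PiTensorProduct.singleAlgHom (R := A) (A := fun _ : Fin d => P) k i) = 0
    exact Ideal.Quotient.eq_zero_iff_mem.2 (hK k i hi)
  let g : Fin d → (B →ₐ[A] ((⨂[A] _ : Fin d, P) ⧸ K)) := fun k =>
    AlgHom.liftOfSurjective π hπ (mkQ.comp (PiTensorProduct.singleAlgHom (R := A)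
        (A := fun _ : Fin d => P) k)) (H k)
  have hcomp : (prodLift g).comp (SymTen.tmap A d π) = mkQ := by
    apply PiTensorProduct.algHom_ext
    intro k
    ext p
    show prodLift g (SymTen.tmap A d π (PiTensorProduct.singleAlgHom k p)) =
      mkQ (PiTensorProduct.singleAlgHom k p)
    rw [tmap_single, prodLift_single]
    exact AlgHom.liftOfSurjective_apply π hπ _ (H k) p
  intro z hz
  rw [RingHom.mem_ker] at hz
  have : mkQ z = 0 := by
    rw [← hcomp, AlgHom.comp_apply, hz, map_zero]
  exact Ideal.Quotient.eq_zero_iff_mem.1 this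

end Groth.Agent.Lib.Helper16.NormLaw
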