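import Groth.Agent.Lib.Helper16.NormLaw.SymBasis
import Groth.Agent.Lib.Helper16.NormLaw.KerTmap

/-!
# The span of the coefficients of the tensor power law, after base change, and the linear
factorisation of multiplicative laws on free algebras
-/

namespace Groth.Agent.Lib.Helper16.NormLaw

open scoped TensorProduct
open Groth.Agent.Lib.Helper25.PolLawCoeff Groth.Agent.Lib.Helper99.SymNorm

universe u

section SD

variable {A : Type u} [CommRing A] (S : Type u) [CommSemiring S] [Algebra A S]
  (P : Type u) [CommRing P] [Algebra A P] (d : ℕ)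

/-- the coefficient span of the tensor power law -/
noncomputable abbrev cs : Submodule A (⨂[A] _ : Fin d, P) :=
  coeffSpan (SymTen.tpowLaw A P d).law

/-- the image of `S ⊗ cs` in `S ⊗ T^d P` -/
noncomputable def SD : Submodule A (S ⊗[A] (⨂[A] _ : Fin d, P)) :=
  LinearMap.range ((cs P d).subtype.lTensor S)

variable {S P d}

theorem tmul_mem_SD (s : S) {x : ⨂[A] _ : Fin d, P} (hx : x ∈ cs P d) :
    s ⊗ₜ[A] x ∈ SD S P d :=
  ⟨s ⊗ₜ[A] ⟨x, hx⟩, by rw [LinearMap.lTensor_tmul]; rfl⟩

/-- induction principle for `SD` -/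
theorem SD_induction {p : S ⊗[A] (⨂[A] _ : Fin d, P) → Prop}
    (h0 : p 0) (htmul : ∀ (s : S) (x : ⨂[A] _ : Fin d, P), x ∈ cs P d → p (s ⊗ₜ[A] x))
    (hadd : ∀ u v, p u → p v → p (u + v)) {u : S ⊗[A] (⨂[A] _ : Fin d, P)}
    (hu : u ∈ SD S P d) : p u := by
  obtain ⟨a, rfl⟩ := hu
  induction a using TensorProduct.induction_on with
  | zero => rw [map_zero]; exact h0
  | tmul s x => rw [LinearMap.lTensor_tmul]; exact htmul s x.1 x.2
  | add a b ha hb => rw [map_add]; exact hadd _ _ ha hb

theorem one_mem_SD : (1 : S ⊗[A] (⨂[A] _ : Fin d, P)) ∈ SD S P d := by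
  rw [Algebra.TensorProduct.one_def]
  exact tmul_mem_SD 1 (one_mem_coeffSpan (SymTen.tpowLaw A P d))

theorem mul_mem_SD {u v : S ⊗[A] (⨂[A] _ : Fin d, P)} (hu : u ∈ SD S P d)
    (hv : v ∈ SD S P d) : u * v ∈ SD S P d := by
  refine SD_induction (p := fun u => u * v ∈ SD S P d) ?_ ?_ ?_ hu
  · rw [zero_mul]; exact Submodule.zero_mem _
  · intro s x hx
    refine SD_induction (p := fun v => s ⊗ₜ[A] x * v ∈ SD S P d) ?_ ?_ ?_ hv
    · rw [mul_zero]; exact Submodule.zero_mem _
    · intro s' x' hx'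
      rw [Algebra.TensorProduct.tmul_mul_tmul]
      exact tmul_mem_SD _ (coeffSpan_mul_mem (SymTen.tpowLaw A P d) hx hx')
    · intro a b ha hb
      rw [mul_add]; exact Submodule.add_mem _ ha hb
  · intro a b ha hb
    rw [add_mul]; exact Submodule.add_mem _ ha hb

theorem pow_mem_SD {u : S ⊗[A] (⨂[A] _ : Fin d, P)} (hu : u ∈ SD S P d) (n : ℕ) :
    u ^ n ∈ SD S P d := by
  induction n with
  | zero => rw [pow_zero]; exact one_mem_SD
  | succ n ih => rw [pow_succ]; exact mul_mem_SD ih hu

/-- elements of the coefficient span are symmetric -/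
theorem perm_cs (σ : Equiv.Perm (Fin d)) {x : ⨂[A] _ : Fin d, P} (hx : x ∈ cs P d) :
    SymTen.perm A P d σ x = x := by
  induction hx using Submodule.span_induction with
  | mem x hx =>
    obtain ⟨τ, m, I, ν, rfl⟩ := hx
    have h := coeff_postcomp (SymTen.perm A P d σ).toLinearMap (SymTen.tpowLaw A P d).law m I ν
    rw [postcomp_perm_tpowLaw] at h
    exact h.symm
  | zero => rw [map_zero]
  | add x y _ _ hx hy => rw [map_add, hx, hy]
  | smul a x _ hx => rw [map_smul, hx]

theorem perm_SD (σ : Equiv.Perm (Fin d)) {u : S ⊗[A] (⨂[A] _ : Fin d, P)}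
    (hu : u ∈ SD S P d) : (SymTen.perm A P d σ).toLinearMap.lTensor S u = u := by
  refine SD_induction
    (p := fun u => (SymTen.perm A P d σ).toLinearMap.lTensor S u = u) ?_ ?_ ?_ hu
  · rw [map_zero]
  · intro s x hx
    rw [LinearMap.lTensor_tmul, AlgHom.toLinearMap_apply, perm_cs σ hx]
  · intro a b ha hb
    rw [map_add, ha, hb]

end SD

section Symm

variable {A : Type u} [CommRing A] {P : Type u} [CommRing P] [Algebra A P] {d : ℕ}

theorem perm_mul (σ τ : Equiv.Perm (Fin d)) :
    SymTen.perm A P d (τ * σ) = (SymTen.perm A P d τ).comp (SymTen.perm A P d σ) := by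
  apply AlgHom.toLinearMap_injective
  apply PiTensorProduct.ext
  apply MultilinearMap.ext
  intro f
  show SymTen.perm A P d (τ * σ) (PiTensorProduct.tprod A f) =
    SymTen.perm A P d τ (SymTen.perm A P d σ (PiTensorProduct.tprod A f))
  rw [SymTen.perm_tprod, SymTen.perm_tprod, SymTen.perm_tprod]
  rfl

theorem symmLaw_toFun' (S : Type u) [CommSemiring S] [Algebra A S]
    (z : S ⊗[A] (⨂[A] _ : Fin d, P)) :
    (SymTen.symmLaw A P d).law.toFun' S z =
      ∏ σ : Equiv.Perm (Fin d),
        Algebra.TensorProduct.map (AlgHom.id S S) (SymTen.perm A P d σ) z := rfl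

/-- the value of the symmetrisation law is invariant under permutations -/
theorem perm_symmLaw (S : Type u) [CommSemiring S] [Algebra A S] (τ : Equiv.Perm (Fin d))
    (z : S ⊗[A] (⨂[A] _ : Fin d, P)) :
    (SymTen.perm A P d τ).toLinearMap.lTensor S ((SymTen.symmLaw A P d).law.toFun' S z) =
      (SymTen.symmLaw A P d).law.toFun' S z := by
  rw [PolLaw.lTensor_algHom_apply, symmLaw_toFun', map_prod]
  rw [← Equiv.prod_comp (Equiv.mulLeft τ) (fun σ =>
    Algebra.TensorProduct.map (AlgHom.id S S) (SymTen.perm A P d σ) z)]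
  refine Finset.prod_congr rfl fun σ _ => ?_
  rw [Equiv.coe_mulLeft, perm_mul]
  rw [← AlgHom.comp_apply, ← Algebra.TensorProduct.map_comp]
  rfl

/-- on permutation-invariant elements the symmetrisation law is the `d!`-th power -/
theorem symmLaw_of_invariant (S : Type u) [CommSemiring S] [Algebra A S]
    (z : S ⊗[A] (⨂[A] _ : Fin d, P))
    (hz : ∀ σ : Equiv.Perm (Fin d), (SymTen.perm A P d σ).toLinearMap.lTensor S z = z) :
    (SymTen.symmLaw A P d).law.toFun' S z = z ^ d.factorial := by
  rw [symmLaw_toFun']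
  have : ∀ σ : Equiv.Perm (Fin d),
      Algebra.TensorProduct.map (AlgHom.id S S) (SymTen.perm A P d σ) z = z := by
    intro σ
    rw [← PolLaw.lTensor_algHom_apply, hz σ]
  rw [Finset.prod_congr rfl (fun σ _ => this σ), Finset.prod_const, Finset.card_univ,
    Fintype.card_perm, Fintype.card_fin]

variable {P' : Type u} [CommRing P'] [Algebra A P']

theorem tmap_perm (f : P' →ₐ[A] P) (σ : Equiv.Perm (Fin d)) :
    (SymTen.tmap A d f).comp (SymTen.perm A P' d σ) =
      (SymTen.perm A P d σ).comp (SymTen.tmap A d f) := by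
  refine AlgHom.ext fun z => ?_
  show SymTen.tmap A d f (SymTen.perm A P' d σ z) = SymTen.perm A P d σ (SymTen.tmap A d f z)
  rw [SymTen.perm_apply, SymTen.perm_apply, SymTen.tmap_reindex]

/-- naturality of the symmetrisation law -/
theorem tmap_symmLaw (f : P' →ₐ[A] P) (S : Type u) [CommSemiring S] [Algebra A S]
    (z : S ⊗[A] (⨂[A] _ : Fin d, P')) :
    (SymTen.tmap A d f).toLinearMap.lTensor S ((SymTen.symmLaw A P' d).law.toFun' S z) =
      (SymTen.symmLaw A P d).law.toFun' S ((SymTen.tmap A d f).toLinearMap.lTensor S z) := by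
  rw [PolLaw.lTensor_algHom_apply, PolLaw.lTensor_algHom_apply, symmLaw_toFun', symmLaw_toFun',
    map_prod]
  refine Finset.prod_congr rfl fun σ _ => ?_
  rw [← AlgHom.comp_apply, ← AlgHom.comp_apply, ← Algebra.TensorProduct.map_comp,
    ← Algebra.TensorProduct.map_comp, tmap_perm]

end Symm

end Groth.Agent.Lib.Helper16.NormLaw
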