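import Groth.Agent.Lib.Helper25.PolLawKer

/-!
# Descending a polynomial law along a surjective algebra map whose kernel lies in the kernel
of the law
-/

namespace Groth.Agent.Lib.Helper16.NormLaw

open scoped TensorProduct
open Groth.Agent.Lib.Helper25.PolLawCoeff Groth.Agent.Lib.Helper68

universe u

variable {A : Type u} [CommRing A] {T TB C : Type u} [CommRing T] [Algebra A T] [CommRing TB]
  [Algebra A TB] [CommRing C] [Algebra A C]

/-- adding an element coming from `S ⊗ ker q` does not change the value of the law -/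
theorem toFun'_add_ker (Λ : T →ₚₗ[A] C) (q : T →ₐ[A] TB)
    (hker : RingHom.ker q ≤ PolLaw.ker Λ) (S : Type u) [CommSemiring S] [Algebra A S]
    (y : S ⊗[A] (LinearMap.ker q.toLinearMap)) (z : S ⊗[A] T) :
    Λ.toFun' S (z + (LinearMap.ker q.toLinearMap).subtype.lTensor S y) = Λ.toFun' S z := by
  induction y using TensorProduct.induction_on generalizing z with
  | zero => simp
  | tmul s j =>
    have hj : (j : T) ∈ PolLaw.ker Λ := hker (by
      rw [RingHom.mem_ker]
      exact j.2)
    have h1 : (LinearMap.ker q.toLinearMap).subtype.lTensor S (s ⊗ₜ[A] j) =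
        (s ⊗ₜ[A] (1 : T)) * ((1 : S) ⊗ₜ[A] (j : T)) := by
      rw [LinearMap.lTensor_tmul, Algebra.TensorProduct.tmul_mul_tmul, mul_one, one_mul]
      rfl
    rw [h1]
    exact hj S z _
  | add a b ha hb =>
    rw [map_add, ← add_assoc, hb, ha]

/-- over a test ring, the value of the law only depends on the image under `S ⊗ q` -/
theorem toFun'_eq_of_map_eq (Λ : T →ₚₗ[A] C) (q : T →ₐ[A] TB) (hq : Function.Surjective q)
    (hker : RingHom.ker q ≤ PolLaw.ker Λ) (S : Type u) [CommRing S] [Algebra A S]
    (z z' : S ⊗[A] T) (h : q.toLinearMap.lTensor S z = q.toLinearMap.lTensor S z') :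
    Λ.toFun' S z = Λ.toFun' S z' := by
  have hex : Function.Exact ((LinearMap.ker q.toLinearMap).subtype.lTensor S)
      (q.toLinearMap.lTensor S) :=
    lTensor_exact S (LinearMap.exact_subtype_ker_map q.toLinearMap) hq
  have hz : q.toLinearMap.lTensor S (z' - z) = 0 := by
    rw [map_sub, h, sub_self]
  obtain ⟨y, hy⟩ := (hex (z' - z)).1 hz
  have : z' = z + (LinearMap.ker q.toLinearMap).subtype.lTensor S y := by
    rw [hy]; abel
  rw [this, toFun'_add_ker Λ q hker]

open Classical in
/-- the family on polynomial rings defining the descended law -/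
noncomputable def descFam (Λ : T →ₚₗ[A] C) (q : T →ₐ[A] TB) (hq : Function.Surjective q) (n : ℕ)
    (y : MvPolynomial (Fin n) A ⊗[A] TB) : MvPolynomial (Fin n) A ⊗[A] C :=
  Λ.toFun' (MvPolynomial (Fin n) A)
    (Classical.choose (LinearMap.lTensor_surjective (MvPolynomial (Fin n) A)
      (g := q.toLinearMap) hq y))

theorem descFam_spec (Λ : T →ₚₗ[A] C) (q : T →ₐ[A] TB) (hq : Function.Surjective q)
    (hker : RingHom.ker q ≤ PolLaw.ker Λ) (n : ℕ) (z : MvPolynomial (Fin n) A ⊗[A] T) :
    descFam Λ q hq n (q.toLinearMap.lTensor _ z) = Λ.toFun' (MvPolynomial (Fin n) A) z := by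
  apply toFun'_eq_of_map_eq Λ q hq hker
  exact Classical.choose_spec (LinearMap.lTensor_surjective (MvPolynomial (Fin n) A)
      (g := q.toLinearMap) hq (q.toLinearMap.lTensor _ z))

theorem descFam_polyCompat (Λ : T →ₚₗ[A] C) (q : T →ₐ[A] TB) (hq : Function.Surjective q)
    (hker : RingHom.ker q ≤ PolLaw.ker Λ) : PolyCompat (descFam Λ q hq) := by
  intro n m φ
  funext y
  obtain ⟨z, rfl⟩ := LinearMap.lTensor_surjective (MvPolynomial (Fin n) A)
      (g := q.toLinearMap) hq y
  simp only [Function.comp_apply]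
  rw [descFam_spec Λ q hq hker, PolynomialLaw.isCompat_apply',
    ← LinearMap.comp_apply (φ.toLinearMap.rTensor TB), LinearMap.rTensor_comp_lTensor,
    ← LinearMap.lTensor_comp_rTensor, LinearMap.comp_apply, descFam_spec Λ q hq hker]

/-- The law on `TB` induced by a law on `T` along a surjection `q : T → TB` whose kernel is
contained in the kernel of the law. -/
noncomputable def descend (Λ : T →ₚₗ[A] C) (q : T →ₐ[A] TB) (hq : Function.Surjective q)
    (hker : RingHom.ker q ≤ PolLaw.ker Λ) : TB →ₚₗ[A] C :=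
  (descFam_polyCompat Λ q hq hker).toPolynomialLaw

theorem descend_spec (Λ : T →ₚₗ[A] C) (q : T →ₐ[A] TB) (hq : Function.Surjective q)
    (hker : RingHom.ker q ≤ PolLaw.ker Λ) (S : Type u) [CommSemiring S] [Algebra A S]
    (z : S ⊗[A] T) :
    (descend Λ q hq hker).toFun' S (q.toLinearMap.lTensor S z) = Λ.toFun' S z := by
  obtain ⟨n, ψ, p, rfl⟩ := PolynomialLaw.exists_lift z
  rw [← LinearMap.comp_apply, LinearMap.lTensor_comp_rTensor, ← LinearMap.rTensor_comp_lTensor,
    LinearMap.comp_apply, descend, PolyCompat.toPolynomialLaw_toFun', descFam_spec Λ q hq hker,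
    PolynomialLaw.isCompat_apply']

theorem descend_isHomog (Λ : T →ₚₗ[A] C) (q : T →ₐ[A] TB) (hq : Function.Surjective q)
    (hker : RingHom.ker q ≤ PolLaw.ker Λ) {n : ℕ} (hΛ : PolLaw.IsHomog Λ n) :
    PolLaw.IsHomog (descend Λ q hq hker) n := by
  intro S _ _ s y
  obtain ⟨z, rfl⟩ := LinearMap.lTensor_surjective S (g := q.toLinearMap) hq y
  have h1 : s • q.toLinearMap.lTensor S z = q.toLinearMap.lTensor S (s • z) := by
    induction z using TensorProduct.induction_on with
    | zero => simp
    | tmul a t =>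
      rw [LinearMap.lTensor_tmul, TensorProduct.smul_tmul', TensorProduct.smul_tmul',
        LinearMap.lTensor_tmul]
    | add x y hx hy => rw [map_add, smul_add, hx, hy, smul_add, map_add]
  rw [h1, descend_spec, descend_spec, hΛ S s z]

theorem descend_isMult (Λ : T →ₚₗ[A] C) (q : T →ₐ[A] TB) (hq : Function.Surjective q)
    (hker : RingHom.ker q ≤ PolLaw.ker Λ) (hΛ : PolLaw.IsMult Λ) :
    PolLaw.IsMult (descend Λ q hq hker) := by
  intro S _ _
  constructor
  · have h1 : (1 : S ⊗[A] TB) = q.toLinearMap.lTensor S 1 := by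
      rw [PolLaw.lTensor_algHom_apply, map_one]
    rw [h1, descend_spec, (hΛ S).1]
  · intro y y'
    obtain ⟨z, rfl⟩ := LinearMap.lTensor_surjective S (g := q.toLinearMap) hq y
    obtain ⟨z', rfl⟩ := LinearMap.lTensor_surjective S (g := q.toLinearMap) hq y'
    have h1 : q.toLinearMap.lTensor S z * q.toLinearMap.lTensor S z' =
        q.toLinearMap.lTensor S (z * z') := by
      rw [PolLaw.lTensor_algHom_apply, PolLaw.lTensor_algHom_apply, PolLaw.lTensor_algHom_apply,
        map_mul]
    rw [h1, descend_spec, descend_spec, descend_spec, (hΛ S).2]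

end Groth.Agent.Lib.Helper16.NormLaw
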