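import Groth.Agent.Lib.Helper16.NormLaw.Core

/-!
# The linear factorisation of multiplicative laws on free algebras: multiplicativity on the
coefficient span after base change, naturality, comparison with the tensor power
-/

namespace Groth.Agent.Lib.Helper16.NormLaw

open scoped TensorProduct
open Groth.Agent.Lib.Helper25.PolLawCoeff Groth.Agent.Lib.Helper99.SymNorm

universe u

section Lin

variable {A : Type u} [CommRing A] {P : Type u} [CommRing P] [Algebra A P] {C : Type u}
  [CommRing C] [Algebra A C] {d : ℕ} {J : Type u} (bas : Module.Basis J A P)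
  (F : PolLaw.MulLaw A P C d)

theorem lin_one (S : Type u) [CommSemiring S] [Algebra A S] :
    (linFactor bas F.law d).lTensor S (1 : S ⊗[A] (⨂[A] _ : Fin d, P)) = 1 := by
  rw [Algebra.TensorProduct.one_def, LinearMap.lTensor_tmul, linFactor_one]
  rfl

theorem lin_mul {S : Type u} [CommSemiring S] [Algebra A S]
    {u v : S ⊗[A] (⨂[A] _ : Fin d, P)} (hu : u ∈ SD S P d) (hv : v ∈ SD S P d) :
    (linFactor bas F.law d).lTensor S (u * v) =
      (linFactor bas F.law d).lTensor S u * (linFactor bas F.law d).lTensor S v := by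
  refine SD_induction (p := fun u => (linFactor bas F.law d).lTensor S (u * v) =
      (linFactor bas F.law d).lTensor S u * (linFactor bas F.law d).lTensor S v) ?_ ?_ ?_ hu
  · rw [zero_mul, map_zero, zero_mul]
  · intro s x hx
    refine SD_induction (p := fun v => (linFactor bas F.law d).lTensor S (s ⊗ₜ[A] x * v) =
      (linFactor bas F.law d).lTensor S (s ⊗ₜ[A] x) * (linFactor bas F.law d).lTensor S v)
      ?_ ?_ ?_ hv
    · rw [mul_zero, map_zero, mul_zero]
    · intro s' x' hx'
      rw [Algebra.TensorProduct.tmul_mul_tmul, LinearMap.lTensor_tmul, LinearMap.lTensor_tmul,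
        LinearMap.lTensor_tmul, Algebra.TensorProduct.tmul_mul_tmul, linFactor_mul bas F hx hx']
    · intro a b ha hb
      rw [mul_add, map_add, map_add, ha, hb, mul_add]
  · intro a b ha hb
    rw [add_mul, map_add, map_add, ha, hb, add_mul]

theorem lin_pow {S : Type u} [CommSemiring S] [Algebra A S]
    {u : S ⊗[A] (⨂[A] _ : Fin d, P)} (hu : u ∈ SD S P d) (n : ℕ) :
    (linFactor bas F.law d).lTensor S (u ^ n) = (linFactor bas F.law d).lTensor S u ^ n := by
  induction n with
  | zero => rw [pow_zero, pow_zero, lin_one]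
  | succ n ih => rw [pow_succ, pow_succ, lin_mul bas F (pow_mem_SD hu n) hu, ih]

end Lin

section Invariant

variable {A : Type u} [CommRing A] {P : Type u} [CommRing P] [Algebra A P] {d : ℕ} {J : Type u}

/-- over a polynomial ring and a free algebra, permutation-invariant elements of the base
changed tensor power lie in the base changed coefficient span -/
theorem mem_SD_of_invariant (bas : Module.Basis J A P) (n : ℕ)
    (u : MvPolynomial (Fin n) A ⊗[A] (⨂[A] _ : Fin d, P))
    (hu : ∀ σ : Equiv.Perm (Fin d),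
      (SymTen.perm A P d σ).toLinearMap.lTensor (MvPolynomial (Fin n) A) u = u) :
    u ∈ SD (MvPolynomial (Fin n) A) P d := by
  rw [eq_sum_tc (Fin n) _ u]
  refine Submodule.sum_mem _ fun ν _ => ?_
  refine tmul_mem_SD _ (mem_coeffSpan_of_mem_TS bas ?_)
  intro σ
  rw [← SymTen.perm_apply]
  have h := tc_lTensor (SymTen.perm A P d σ).toLinearMap u ν
  rw [hu σ] at h
  exact h.symm

theorem symmLaw_mem_SD (bas : Module.Basis J A P) (n : ℕ)
    (z : MvPolynomial (Fin n) A ⊗[A] (⨂[A] _ : Fin d, P)) :
    (SymTen.symmLaw A P d).law.toFun' (MvPolynomial (Fin n) A) z ∈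
      SD (MvPolynomial (Fin n) A) P d :=
  mem_SD_of_invariant bas n _ fun σ => perm_symmLaw _ σ z

end Invariant

section Natural

variable {A : Type u} [CommRing A] {P : Type u} [CommRing P] [Algebra A P] {C : Type u}
  [CommRing C] [Algebra A C] {d : ℕ} {J : Type u} (bas : Module.Basis J A P)
  (F : PolLaw.MulLaw A P C d)
  {P' : Type u} [CommRing P'] [Algebra A P'] {J' : Type u} (bas' : Module.Basis J' A P')

theorem tmap_coeff_tpowLaw (f : P' →ₐ[A] P) {σ : Type u} (m : σ → P') (I : Finset σ)
    (ν : σ →₀ ℕ) :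
    SymTen.tmap A d f (coeff (SymTen.tpowLaw A P' d).law m I ν) =
      coeff (SymTen.tpowLaw A P d).law (fun i => f (m i)) I ν := by
  classical
  rw [coeff_tpowLaw, coeff_tpowLaw, map_sum]
  refine Finset.sum_congr rfl fun c _ => ?_
  rw [SymTen.tmap_tprod]

theorem tmap_mem_cs (f : P' →ₐ[A] P) {x : ⨂[A] _ : Fin d, P'} (hx : x ∈ cs P' d) :
    SymTen.tmap A d f x ∈ cs P d := by
  induction hx using Submodule.span_induction with
  | mem x hx =>
    obtain ⟨σ, m, I, ν, rfl⟩ := hx
    rw [tmap_coeff_tpowLaw]
    exact coeff_mem_coeffSpan _ _ _ _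
  | zero => rw [map_zero]; exact Submodule.zero_mem _
  | add x y _ _ hx hy => rw [map_add]; exact Submodule.add_mem _ hx hy
  | smul a x _ hx => rw [map_smul]; exact Submodule.smul_mem _ _ hx

theorem tmap_mem_SD (f : P' →ₐ[A] P) {S : Type u} [CommSemiring S] [Algebra A S]
    {u : S ⊗[A] (⨂[A] _ : Fin d, P')} (hu : u ∈ SD S P' d) :
    (SymTen.tmap A d f).toLinearMap.lTensor S u ∈ SD S P d := by
  refine SD_induction (p := fun u => (SymTen.tmap A d f).toLinearMap.lTensor S u ∈ SD S P d)
    ?_ ?_ ?_ hu
  · rw [map_zero]; exact Submodule.zero_mem _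
  · intro s x hx
    rw [LinearMap.lTensor_tmul]
    exact tmul_mem_SD s (tmap_mem_cs f hx)
  · intro a b ha hb
    rw [map_add]; exact Submodule.add_mem _ ha hb

/-- naturality of the linear factorisation in the free algebra -/
theorem lin_tmap (f : P' →ₐ[A] P) {x : ⨂[A] _ : Fin d, P'} (hx : x ∈ cs P' d) :
    linFactor bas F.law d (SymTen.tmap A d f x) = linFactor bas' (F.precomp f).law d x := by
  induction hx using Submodule.span_induction with
  | mem x hx =>
    obtain ⟨σ, m, I, ν, rfl⟩ := hx
    rw [tmap_coeff_tpowLaw, linFactor_coeff_general, linFactor_coeff_general]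
    show _ = coeff (PolLaw.precomp F.law f.toLinearMap) m I ν
    rw [coeff_precomp]
    rfl
  | zero => rw [map_zero, map_zero, map_zero]
  | add x y _ _ hx hy => rw [map_add, map_add, map_add, hx, hy]
  | smul a x _ hx => rw [map_smul, map_smul, map_smul, hx]

theorem lin_tmap_SD (f : P' →ₐ[A] P) {S : Type u} [CommSemiring S] [Algebra A S]
    {u : S ⊗[A] (⨂[A] _ : Fin d, P')} (hu : u ∈ SD S P' d) :
    (linFactor bas F.law d).lTensor S ((SymTen.tmap A d f).toLinearMap.lTensor S u) =
      (linFactor bas' (F.precomp f).law d).lTensor S u := by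
  refine SD_induction (p := fun u =>
    (linFactor bas F.law d).lTensor S ((SymTen.tmap A d f).toLinearMap.lTensor S u) =
      (linFactor bas' (F.precomp f).law d).lTensor S u) ?_ ?_ ?_ hu
  · rw [map_zero, map_zero, map_zero]
  · intro s x hx
    rw [LinearMap.lTensor_tmul, LinearMap.lTensor_tmul, LinearMap.lTensor_tmul,
      AlgHom.toLinearMap_apply, lin_tmap bas F bas' f hx]
  · intro a b ha hb
    rw [map_add, map_add, map_add, ha, hb]

variable {B : Type u} [CommRing B] [Algebra A B]

/-- comparison of the linear factorisation with the tensor power of `π`, when the law composed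
with `φ'` is the tensor power law composed with `π` -/
theorem phi_lin (π : P →ₐ[A] B) (φ' : C →ₐ[A] (⨂[A] _ : Fin d, B))
    (h : PolLaw.postcomp φ'.toLinearMap F.law =
      PolLaw.postcomp (SymTen.tmap A d π).toLinearMap (SymTen.tpowLaw A P d).law)
    {x : ⨂[A] _ : Fin d, P} (hx : x ∈ cs P d) :
    φ' (linFactor bas F.law d x) = SymTen.tmap A d π x := by
  induction hx using Submodule.span_induction with
  | mem x hx =>
    obtain ⟨σ, m, I, ν, rfl⟩ := hx
    rw [linFactor_coeff_general]
    have h1 := coeff_postcomp φ'.toLinearMap F.law m I ν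
    have h2 := coeff_postcomp (SymTen.tmap A d π).toLinearMap (SymTen.tpowLaw A P d).law m I ν
    rw [h] at h1
    rw [h2] at h1
    exact h1.symm
  | zero => rw [map_zero, map_zero, map_zero]
  | add x y _ _ hx hy => rw [map_add, map_add, map_add, hx, hy]
  | smul a x _ hx => rw [map_smul, map_smul, map_smul, hx]

theorem phi_lin_SD (π : P →ₐ[A] B) (φ' : C →ₐ[A] (⨂[A] _ : Fin d, B))
    (h : PolLaw.postcomp φ'.toLinearMap F.law =
      PolLaw.postcomp (SymTen.tmap A d π).toLinearMap (SymTen.tpowLaw A P d).law)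
    {S : Type u} [CommSemiring S] [Algebra A S]
    {u : S ⊗[A] (⨂[A] _ : Fin d, P)} (hu : u ∈ SD S P d) :
    φ'.toLinearMap.lTensor S ((linFactor bas F.law d).lTensor S u) =
      (SymTen.tmap A d π).toLinearMap.lTensor S u := by
  refine SD_induction (p := fun u =>
    φ'.toLinearMap.lTensor S ((linFactor bas F.law d).lTensor S u) =
      (SymTen.tmap A d π).toLinearMap.lTensor S u) ?_ ?_ ?_ hu
  · rw [map_zero, map_zero, map_zero]
  · intro s x hx
    rw [LinearMap.lTensor_tmul, LinearMap.lTensor_tmul, LinearMap.lTensor_tmul,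
      AlgHom.toLinearMap_apply, AlgHom.toLinearMap_apply, phi_lin bas F π φ' h hx]
  · intro a b ha hb
    rw [map_add, map_add, map_add, ha, hb]

end Natural

section Surj

variable {A : Type u} [CommRing A] {P : Type u} [CommRing P] [Algebra A P] {C : Type u}
  [CommRing C] [Algebra A C] {d : ℕ} {J : Type u} (bas : Module.Basis J A P)
  {B : Type u} [CommRing B] [Algebra A B]

/-- for a universal law `γ` on `B` and a surjection `π : P → B` from a free algebra, the linear
factorisation of `γ ∘ π` maps the coefficient span onto `C` -/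
theorem lin_surjective (γ : PolLaw.MulLaw A B C d) (hγ : PolLaw.IsGammaD γ) (π : P →ₐ[A] B)
    (hπ : Function.Surjective π) (c : C) :
    ∃ x ∈ cs P d, linFactor bas (γ.precomp π).law d x = c := by
  have hc : c ∈ coeffSpan γ.law := by
    rw [coeffSpan_eq_top γ hγ]; exact Submodule.mem_top
  induction hc using Submodule.span_induction with
  | mem c hc =>
    obtain ⟨σ, m, I, ν, rfl⟩ := hc
    refine ⟨coeff (SymTen.tpowLaw A P d).law (fun i => Classical.choose (hπ (m i))) I ν,
      coeff_mem_coeffSpan _ _ _ _, ?_⟩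
    rw [linFactor_coeff_general]
    show coeff (PolLaw.precomp γ.law π.toLinearMap) _ I ν = _
    rw [coeff_precomp]
    congr 2
    funext i
    exact Classical.choose_spec (hπ (m i))
  | zero => exact ⟨0, Submodule.zero_mem _, map_zero _⟩
  | add x y _ _ hx hy =>
    obtain ⟨x', hx', rfl⟩ := hx
    obtain ⟨y', hy', rfl⟩ := hy
    exact ⟨x' + y', Submodule.add_mem _ hx' hy', map_add _ _ _⟩
  | smul a x _ hx =>
    obtain ⟨x', hx', rfl⟩ := hx
    exact ⟨a • x', Submodule.smul_mem _ _ hx', map_smul _ _ _⟩

theorem lin_surjective_SD (γ : PolLaw.MulLaw A B C d) (hγ : PolLaw.IsGammaD γ) (π : P →ₐ[A] B)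
    (hπ : Function.Surjective π) (S : Type u) [CommSemiring S] [Algebra A S] (c : S ⊗[A] C) :
    ∃ u ∈ SD S P d, (linFactor bas (γ.precomp π).law d).lTensor S u = c := by
  induction c using TensorProduct.induction_on with
  | zero => exact ⟨0, Submodule.zero_mem _, map_zero _⟩
  | tmul s c =>
    obtain ⟨x, hx, rfl⟩ := lin_surjective bas γ hγ π hπ c
    exact ⟨s ⊗ₜ[A] x, tmul_mem_SD s hx, LinearMap.lTensor_tmul _ _ _ _⟩
  | add a b ha hb =>
    obtain ⟨a', ha', rfl⟩ := ha
    obtain ⟨b', hb', rfl⟩ := hb
    exact ⟨a' + b', Submodule.add_mem _ ha' hb', map_add _ _ _⟩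

end Surj

end Groth.Agent.Lib.Helper16.NormLaw
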