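import Groth.Agent.Lib.Helper25.PolLawCH

/-!
# Surjectivity of Iversen's map `Γ^{e+1}(B) ⊗ B → Γ^e(B) ⊗ B` (helper16)
-/

set_option autoImplicit false

namespace Groth.Agent.Lib.Helper16.NormLaw

open scoped TensorProduct
open Groth.Agent.Lib.Helper25.PolLawCoeff

universe u

section TC
variable {A : Type u} [CommRing A] {σ : Type*} {N : Type*} [CommRing N] [Algebra A N]

/-- coefficients of a product with `X i ⊗ b` -/
theorem tc_X_tmul_mul (i : σ) (b' : N) (w : MvPolynomial σ A ⊗[A] N) (μ : σ →₀ ℕ) :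
    tc σ N (((MvPolynomial.X i : MvPolynomial σ A) ⊗ₜ[A] b') * w) μ =
      if 1 ≤ μ i then b' * tc σ N w (μ - Finsupp.single i 1) else 0 := by
  classical
  induction w using TensorProduct.induction_on with
  | zero => simp
  | tmul p n =>
    rw [Algebra.TensorProduct.tmul_mul_tmul, tc_tmul, tc_tmul, MvPolynomial.coeff_X_mul']
    have : i ∈ μ.support ↔ 1 ≤ μ i := by
      rw [Finsupp.mem_support_iff, Nat.one_le_iff_ne_zero]
    by_cases h : 1 ≤ μ i
    · rw [if_pos (this.2 h), if_pos h, mul_smul_comm]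
    · rw [if_neg (fun h' => h (this.1 h')), if_neg h, zero_smul]
  | add x y hx hy =>
    rw [mul_add, map_add, Finsupp.add_apply, hx, hy, map_add, Finsupp.add_apply]
    split_ifs
    · rw [mul_add]
    · rw [add_zero]

end TC

section Iversen
variable {A B Cd Ce : Type u} [CommRing A] [CommRing B] [Algebra A B]
  [CommRing Cd] [Algebra A Cd] [CommRing Ce] [Algebra A Ce] {e : ℕ}
  (γd : PolLaw.MulLaw A B Cd (e + 1)) (γe : PolLaw.MulLaw A B Ce e)
  (ω : Cd ⊗[A] B →ₐ[A] Ce ⊗[A] B)

/-- the hypothesis characterising Iversen's map -/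
def IsIversen : Prop :=
  ∀ (S : Type u) [CommSemiring S] [Algebra A S] (x y : S ⊗[A] B),
    ω.toLinearMap.lTensor S
      ((Algebra.TensorProduct.includeLeft : Cd →ₐ[A] Cd ⊗[A] B).toLinearMap.lTensor S
          (γd.law.toFun' S x) *
        (Algebra.TensorProduct.includeRight : B →ₐ[A] Cd ⊗[A] B).toLinearMap.lTensor S y) =
    (Algebra.TensorProduct.includeLeft : Ce →ₐ[A] Ce ⊗[A] B).toLinearMap.lTensor S
        (γe.law.toFun' S x) *
      (Algebra.TensorProduct.includeRight : B →ₐ[A] Ce ⊗[A] B).toLinearMap.lTensor S (x * y)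

variable {γd γe ω}

theorem one_tmul_mem_range (hω : IsIversen γd γe ω) (b : B) :
    (1 : Ce) ⊗ₜ[A] b ∈ ω.range := by
  have h := hω A 1 ((1 : A) ⊗ₜ[A] b)
  rw [(γd.mult A).1, (γe.mult A).1, one_mul] at h
  simp only [PolLaw.lTensor_algHom_apply, map_one, one_mul, Algebra.TensorProduct.map_tmul,
    Algebra.TensorProduct.includeRight_apply] at h
  have h2 := congrArg (TensorProduct.lid A (Ce ⊗[A] B)) h
  rw [TensorProduct.lid_tmul, TensorProduct.lid_tmul, one_smul, one_smul] at h2
  exact ⟨_, h2⟩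

/-- the key relation: coefficientwise form of the defining identity -/
theorem sum_mem_range (hω : IsIversen γd γe ω) {τ : Type u} (g : τ → B) (K : Finset τ)
    (μ : τ →₀ ℕ) :
    (∑ i ∈ K, if 1 ≤ μ i then ((1 : Ce) ⊗ₜ[A] g i) *
      ((coeff γe.law g K (μ - Finsupp.single i 1)) ⊗ₜ[A] (1 : B)) else 0) ∈ ω.range := by
  classical
  have h := hω (MvPolynomial τ A) (gen g K) 1
  rw [mul_one] at h
  have h2 := DFunLike.congr_fun (congrArg (tc τ (Ce ⊗[A] B)) h) μ
  rw [tc_lTensor] at h2
  have h3 : (Algebra.TensorProduct.includeRight : B →ₐ[A] Ce ⊗[A] B).toLinearMap.lTensor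
      (MvPolynomial τ A) (gen g K) =
      ∑ i ∈ K, (MvPolynomial.X i : MvPolynomial τ A) ⊗ₜ[A] ((1 : Ce) ⊗ₜ[A] g i) := by
    rw [gen, map_sum]
    rfl
  rw [h3, Finset.mul_sum, map_sum, Finsupp.finsetSum_apply] at h2
  have h4 : ∀ i ∈ K, tc τ (Ce ⊗[A] B)
      ((Algebra.TensorProduct.includeLeft : Ce →ₐ[A] Ce ⊗[A] B).toLinearMap.lTensor
          (MvPolynomial τ A) (γe.law.toFun' (MvPolynomial τ A) (gen g K)) *
        (MvPolynomial.X i : MvPolynomial τ A) ⊗ₜ[A] ((1 : Ce) ⊗ₜ[A] g i)) μ =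
      if 1 ≤ μ i then ((1 : Ce) ⊗ₜ[A] g i) *
        ((coeff γe.law g K (μ - Finsupp.single i 1)) ⊗ₜ[A] (1 : B)) else 0 := by
    intro i _
    rw [mul_comm, tc_X_tmul_mul, tc_lTensor]
    rfl
  rw [Finset.sum_congr rfl h4] at h2
  exact ⟨_, h2⟩

theorem coeff_tmul_one_mem_range_of_unit (hω : IsIversen γd γe ω) {τ : Type u} (g : τ → B)
    (K : Finset τ) (i₀ : τ) (hi₀ : i₀ ∈ K) (hg : g i₀ = 1) :
    ∀ (n : ℕ) (ν : τ →₀ ℕ), e + 1 ≤ ν i₀ + n →
      (coeff γe.law g K ν) ⊗ₜ[A] (1 : B) ∈ ω.range := by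
  classical
  intro n
  induction n with
  | zero =>
    intro ν hν
    have h0 : coeff γe.law g K ν = 0 := by
      by_contra hne
      have hdeg := coeff_degree γe.law γe.homog g K ν hne
      have := Finsupp.le_degree i₀ ν
      omega
    rw [h0, TensorProduct.zero_tmul]
    exact Subalgebra.zero_mem _
  | succ n ih =>
    intro ν hν
    set μ := ν + Finsupp.single i₀ 1 with hμ
    have hsum := sum_mem_range hω g K μ
    rw [← Finset.add_sum_erase K _ hi₀] at hsum
    have hμi₀ : 1 ≤ μ i₀ := by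
      rw [hμ, Finsupp.add_apply, Finsupp.single_eq_same]
      omega
    have hsub : μ - Finsupp.single i₀ 1 = ν := by
      rw [hμ, add_tsub_cancel_right]
    rw [if_pos hμi₀, hsub, hg, ← Algebra.TensorProduct.one_def, one_mul] at hsum
    have hrest : (∑ i ∈ K.erase i₀, if 1 ≤ μ i then ((1 : Ce) ⊗ₜ[A] g i) *
        ((coeff γe.law g K (μ - Finsupp.single i 1)) ⊗ₜ[A] (1 : B)) else 0) ∈ ω.range := by
      refine Subalgebra.sum_mem _ fun i hi => ?_
      split_ifs with h1
      · refine Subalgebra.mul_mem _ (one_tmul_mem_range hω (g i)) (ih _ ?_)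
        have hne : i ≠ i₀ := (Finset.mem_erase.1 hi).1
        have hz : (Finsupp.single i 1 : τ →₀ ℕ) i₀ = 0 := by
          rw [Finsupp.single_apply, if_neg hne]
        rw [Finsupp.tsub_apply, hμ, Finsupp.add_apply, Finsupp.single_eq_same, hz]
        omega
      · exact Subalgebra.zero_mem _
    have := Subalgebra.sub_mem _ hsum hrest
    rwa [add_sub_cancel_right] at this

theorem coeff_tmul_one_mem_range (hω : IsIversen γd γe ω) {σ : Type u} (m : σ → B)
    (I : Finset σ) (ν : σ →₀ ℕ) : (coeff γe.law m I ν) ⊗ₜ[A] (1 : B) ∈ ω.range := by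
  classical
  let g : Option σ → B := fun o => o.elim 1 m
  let K : Finset (Option σ) := insert none (I.map ⟨some, Option.some_injective σ⟩)
  let a : σ → Option σ → A := fun i k => if k = some i then 1 else 0
  have hm : ∀ i ∈ I, m i = ∑ k ∈ K, a i k • g k := by
    intro i hi
    rw [Finset.sum_eq_single (some i)]
    · simp [a, g]
    · intro k _ hk
      simp [a, hk]
    · intro h
      exfalso
      apply h
      simp [K, hi]
  rw [coeff_congr γe.law I hm]
  have hmem := coeff_linearCombination_mem γe.law g K a I ν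
  have hspan : Submodule.span A (Set.range fun μ : Option σ →₀ ℕ => coeff γe.law g K μ) ≤
      Submodule.comap ((TensorProduct.mk A Ce B).flip 1) (Subalgebra.toSubmodule ω.range) := by
    rw [Submodule.span_le]
    rintro _ ⟨μ, rfl⟩
    exact coeff_tmul_one_mem_range_of_unit hω g K none (by simp [K]) rfl (e + 1) μ (by omega)
  exact hspan hmem

/-- **Iversen's map is surjective.** -/
theorem iversen_surjective (hγe : PolLaw.IsGammaD γe) (hω : IsIversen γd γe ω) :
    Function.Surjective ω := by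
  have hC : ∀ c : Ce, c ⊗ₜ[A] (1 : B) ∈ ω.range := by
    intro c
    have hc : c ∈ coeffSpan γe.law := by
      rw [coeffSpan_eq_top γe hγe]
      exact Submodule.mem_top
    have hspan : coeffSpan γe.law ≤
        Submodule.comap ((TensorProduct.mk A Ce B).flip 1) (Subalgebra.toSubmodule ω.range) := by
      rw [coeffSpan, Submodule.span_le]
      rintro _ ⟨σ, m, I, ν, rfl⟩
      exact coeff_tmul_one_mem_range hω m I ν
    exact hspan hc
  intro z
  have : z ∈ ω.range := by
    induction z using TensorProduct.induction_on with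
    | zero => exact Subalgebra.zero_mem _
    | tmul c b =>
      have h1 : c ⊗ₜ[A] b = (c ⊗ₜ[A] (1 : B)) * ((1 : Ce) ⊗ₜ[A] b) := by
        rw [Algebra.TensorProduct.tmul_mul_tmul, mul_one, one_mul]
      rw [h1]
      exact Subalgebra.mul_mem _ (hC c) (one_tmul_mem_range hω b)
    | add x y hx hy => exact Subalgebra.add_mem _ hx hy
  exact this

end Iversen

end Groth.Agent.Lib.Helper16.NormLaw
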