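import Groth.Agent.Lib.Helper16.NormLaw.Factor
import Groth.Agent.Lib.Helper16.NormLaw.Descend

/-!
# The norm law `T^d(B) → Γ^d(B)`
-/

namespace Groth.Agent.Lib.Helper16.NormLaw

open scoped TensorProduct
open Groth.Agent.Lib.Helper25.PolLawCoeff Groth.Agent.Lib.Helper99.SymNorm

universe u

section Gen

variable {A : Type u} [CommRing A]

theorem law_ext_mvPolynomial {M N : Type u} [AddCommGroup M] [Module A M] [AddCommGroup N]
    [Module A N] (F G : M →ₚₗ[A] N)
    (h : ∀ (n : ℕ) (x : MvPolynomial (Fin n) A ⊗[A] M),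
      F.toFun' (MvPolynomial (Fin n) A) x = G.toFun' (MvPolynomial (Fin n) A) x) : F = G := by
  refine PolynomialLaw.ext ?_
  funext S _ _ t
  obtain ⟨n, ψ, p, rfl⟩ := PolynomialLaw.exists_lift t
  rw [← PolynomialLaw.isCompat_apply', ← PolynomialLaw.isCompat_apply', h]

theorem lTensor_smul' {M N : Type u} [AddCommGroup M] [Module A M] [AddCommGroup N]
    [Module A N] (g : M →ₗ[A] N) (S : Type u) [CommSemiring S] [Algebra A S] (s : S)
    (z : S ⊗[A] M) : g.lTensor S (s • z) = s • g.lTensor S z := by
  induction z using TensorProduct.induction_on with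
  | zero => simp
  | tmul a t =>
    rw [LinearMap.lTensor_tmul, TensorProduct.smul_tmul', TensorProduct.smul_tmul',
      LinearMap.lTensor_tmul]
  | add x y hx hy => rw [smul_add, map_add, hx, hy, map_add, smul_add]

end Gen

section Free

variable {A : Type u} [CommRing A] {P : Type u} [CommRing P] [Algebra A P] {C : Type u}
  [CommRing C] [Algebra A C] {d : ℕ} {J : Type u} (bas : Module.Basis J A P)
  (F : PolLaw.MulLaw A P C d)
  {P' : Type u} [CommRing P'] [Algebra A P'] {J' : Type u} (bas' : Module.Basis J' A P')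

/-- the law `z ↦ L (∏ σ, σ z)` on the tensor power of a free algebra -/
noncomputable def symLin : (⨂[A] _ : Fin d, P) →ₚₗ[A] C :=
  PolLaw.postcomp (linFactor bas F.law d) (SymTen.symmLaw A P d).law

theorem symLin_toFun' (S : Type u) [CommSemiring S] [Algebra A S]
    (z : S ⊗[A] (⨂[A] _ : Fin d, P)) :
    (symLin bas F).toFun' S z =
      (linFactor bas F.law d).lTensor S ((SymTen.symmLaw A P d).law.toFun' S z) := rfl

theorem symLin_tmap (f : P' →ₐ[A] P) (n : ℕ)
    (z : MvPolynomial (Fin n) A ⊗[A] (⨂[A] _ : Fin d, P')) :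
    (symLin bas F).toFun' _ ((SymTen.tmap A d f).toLinearMap.lTensor _ z) =
      (symLin bas' (F.precomp f)).toFun' _ z := by
  rw [symLin_toFun', symLin_toFun', ← tmap_symmLaw,
    lin_tmap_SD bas F bas' f (symmLaw_mem_SD bas' n z)]

theorem symLin_isHomog : PolLaw.IsHomog (symLin bas F) d.factorial := by
  intro S _ _ s z
  rw [symLin_toFun', symLin_toFun', (SymTen.symmLaw A P d).homog S s z, lTensor_smul']

theorem symLin_isMult : PolLaw.IsMult (symLin bas F) := by
  apply isMult_of_mvPolynomial
  · intro n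
    rw [symLin_toFun', ((SymTen.symmLaw A P d).mult _).1, lin_one]
  · intro n x y
    rw [symLin_toFun', symLin_toFun', symLin_toFun', ((SymTen.symmLaw A P d).mult _).2,
      lin_mul bas F (symmLaw_mem_SD bas n x) (symmLaw_mem_SD bas n y)]

end Free

section Ker

variable {A : Type u} [CommRing A] {P : Type u} [CommRing P] [Algebra A P] {C : Type u}
  [CommRing C] [Algebra A C] {d : ℕ} {J : Type u} (bas : Module.Basis J A P)
  {B : Type u} [CommRing B] [Algebra A B]

/-- the key point: an element of `ker π` placed in a single slot lies in the kernel of the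
law `z ↦ L (∏ σ, σ z)` attached to `γ ∘ π` -/
theorem single_mem_ker_symLin (γ : PolLaw.MulLaw A B C d) (π : P →ₐ[A] B) (k : Fin d) (i : P)
    (hi : π i = 0) :
    PiTensorProduct.singleAlgHom (R := A) (A := fun _ : Fin d => P) k i ∈
      PolLaw.ker (symLin bas (γ.precomp π)) := by
  classical
  apply mem_ker_of_forall_mvPolynomial
  intro n x w
  let ev : MvPolynomial P A →ₐ[A] P := MvPolynomial.aeval id
  have hev : Function.Surjective ev := fun p => ⟨MvPolynomial.X p, by simp [ev]⟩
  let basu := MvPolynomial.basisMonomials P A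
  let ρ : MvPolynomial P A →ₐ[A] MvPolynomial P A :=
    MvPolynomial.aeval (fun p => if p = i then 0 else MvPolynomial.X p)
  have hρ : (π.comp ev).comp ρ = π.comp ev := by
    apply MvPolynomial.algHom_ext
    intro p
    by_cases hp : p = i
    · subst hp
      simp [ρ, ev, hi]
    · simp [ρ, ev, hp]
  have hρ' : ∀ (S : Type u) [CommSemiring S] [Algebra A S] (z : S ⊗[A] MvPolynomial P A),
      π.toLinearMap.lTensor S (ev.toLinearMap.lTensor S (ρ.toLinearMap.lTensor S z)) =
        π.toLinearMap.lTensor S (ev.toLinearMap.lTensor S z) := by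
    intro S _ _ z
    induction z using TensorProduct.induction_on with
    | zero => simp
    | tmul s p =>
      simp only [LinearMap.lTensor_tmul, AlgHom.toLinearMap_apply]
      congr 1
      exact DFunLike.congr_fun hρ p
    | add a b ha hb => simp only [map_add, ha, hb]
  set Fu := (γ.precomp π).precomp ev with hFu
  have hFuρ : Fu.precomp ρ = Fu := by
    apply PolLaw.MulLaw.ext
    apply PolynomialLaw.ext
    funext S _ _ z
    show γ.law.toFun' S (π.toLinearMap.lTensor S (ev.toLinearMap.lTensor S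
      (ρ.toLinearMap.lTensor S z))) =
      γ.law.toFun' S (π.toLinearMap.lTensor S (ev.toLinearMap.lTensor S z))
    rw [hρ' S z]
  have hsurj := LinearMap.lTensor_surjective (MvPolynomial (Fin n) A)
    (g := (SymTen.tmap A d ev).toLinearMap) (tmap_surjective ev hev)
  obtain ⟨xu, rfl⟩ := hsurj x
  obtain ⟨wu, rfl⟩ := hsurj w
  set eu : MvPolynomial (Fin n) A ⊗[A] (⨂[A] _ : Fin d, MvPolynomial P A) :=
    1 ⊗ₜ[A] PiTensorProduct.singleAlgHom (R := A) (A := fun _ : Fin d => MvPolynomial P A) k
      (MvPolynomial.X i) with heu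
  have he : (SymTen.tmap A d ev).toLinearMap.lTensor (MvPolynomial (Fin n) A) eu =
      1 ⊗ₜ[A] PiTensorProduct.singleAlgHom (R := A) (A := fun _ : Fin d => P) k i := by
    rw [heu, LinearMap.lTensor_tmul, AlgHom.toLinearMap_apply, tmap_single]
    simp [ev]
  have h1 : (SymTen.tmap A d ev).toLinearMap.lTensor (MvPolynomial (Fin n) A) xu +
      (SymTen.tmap A d ev).toLinearMap.lTensor (MvPolynomial (Fin n) A) wu *
        (1 ⊗ₜ[A] PiTensorProduct.singleAlgHom (R := A) (A := fun _ : Fin d => P) k i) =
      (SymTen.tmap A d ev).toLinearMap.lTensor (MvPolynomial (Fin n) A) (xu + wu * eu) := by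
    rw [← he, PolLaw.lTensor_algHom_apply, PolLaw.lTensor_algHom_apply,
      PolLaw.lTensor_algHom_apply, PolLaw.lTensor_algHom_apply, map_add, map_mul]
  rw [h1, symLin_tmap bas (γ.precomp π) basu ev, symLin_tmap bas (γ.precomp π) basu ev]
  have key : ∀ z : MvPolynomial (Fin n) A ⊗[A] (⨂[A] _ : Fin d, MvPolynomial P A),
      (symLin basu Fu).toFun' (MvPolynomial (Fin n) A) z =
        (symLin basu Fu).toFun' (MvPolynomial (Fin n) A)
          ((SymTen.tmap A d ρ).toLinearMap.lTensor (MvPolynomial (Fin n) A) z) := by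
    intro z
    rw [symLin_tmap basu Fu basu ρ, hFuρ]
  rw [key (xu + wu * eu), key xu]
  congr 1
  have he0 : (SymTen.tmap A d ρ).toLinearMap.lTensor (MvPolynomial (Fin n) A) eu = 0 := by
    rw [heu, LinearMap.lTensor_tmul, AlgHom.toLinearMap_apply, tmap_single]
    have : ρ (MvPolynomial.X i) = 0 := by simp [ρ]
    rw [this, map_zero, TensorProduct.tmul_zero]
  rw [PolLaw.lTensor_algHom_apply, map_add, map_mul, ← PolLaw.lTensor_algHom_apply,
    ← PolLaw.lTensor_algHom_apply, ← PolLaw.lTensor_algHom_apply, he0, mul_zero, add_zero]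

theorem ker_tmap_le_ker_symLin (γ : PolLaw.MulLaw A B C d) (π : P →ₐ[A] B)
    (hπ : Function.Surjective π) :
    RingHom.ker (SymTen.tmap A d π) ≤ PolLaw.ker (symLin bas (γ.precomp π)) :=
  ker_tmap_le π hπ _ fun k i hi => single_mem_ker_symLin bas γ π k i hi

end Ker

section Norm

variable {A : Type u} [CommRing A] {B : Type u} [CommRing B] [Algebra A B] {C : Type u}
  [CommRing C] [Algebra A C] {d : ℕ}

variable (A B) in
/-- the canonical free presentation of `B` -/
noncomputable def piP : MvPolynomial B A →ₐ[A] B := MvPolynomial.aeval id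

theorem piP_surjective : Function.Surjective (piP A B) :=
  fun b => ⟨MvPolynomial.X b, by simp [piP]⟩

variable (γ : PolLaw.MulLaw A B C d)

/-- the law on the tensor power of the free presentation -/
noncomputable def upLaw : (⨂[A] _ : Fin d, MvPolynomial B A) →ₚₗ[A] C :=
  symLin (MvPolynomial.basisMonomials B A) (γ.precomp (piP A B))

/-- The norm law `T^d(B) → C` attached to a multiplicative law `γ : B → C` of degree `d`;
for the universal `γ` this is the canonical law `T^d(B) → Γ^d(B)` of degree `d!`. -/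
noncomputable def normLaw : (⨂[A] _ : Fin d, B) →ₚₗ[A] C :=
  descend (upLaw γ) (SymTen.tmap A d (piP A B)) (tmap_surjective _ piP_surjective)
    (ker_tmap_le_ker_symLin _ γ (piP A B) piP_surjective)

theorem normLaw_spec (S : Type u) [CommSemiring S] [Algebra A S]
    (z : S ⊗[A] (⨂[A] _ : Fin d, MvPolynomial B A)) :
    (normLaw γ).toFun' S ((SymTen.tmap A d (piP A B)).toLinearMap.lTensor S z) =
      (upLaw γ).toFun' S z :=
  descend_spec _ _ _ _ S z

/-- the norm law as a multiplicative law of degree `d!` -/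
noncomputable def normMulLaw : PolLaw.MulLaw A (⨂[A] _ : Fin d, B) C d.factorial where
  law := normLaw γ
  homog := descend_isHomog _ _ _ _ (symLin_isHomog _ _)
  mult := descend_isMult _ _ _ _ (symLin_isMult _ _)

/-- naturality of the tensor power law -/
theorem tmap_tpowLaw {P : Type u} [CommRing P] [Algebra A P] (π : P →ₐ[A] B) (S : Type u)
    [CommSemiring S] [Algebra A S] (z : S ⊗[A] P) :
    (SymTen.tmap A d π).toLinearMap.lTensor S ((SymTen.tpowLaw A P d).law.toFun' S z) =
      (SymTen.tpowLaw A B d).law.toFun' S (π.toLinearMap.lTensor S z) := by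
  have hcomp : ∀ j : Fin d, (SymTen.tmap A d π).comp
      (PiTensorProduct.singleAlgHom (R := A) (A := fun _ : Fin d => P) j) =
      (PiTensorProduct.singleAlgHom (R := A) (A := fun _ : Fin d => B) j).comp π := by
    intro j
    refine AlgHom.ext fun p => ?_
    exact tmap_single π j p
  rw [PolLaw.lTensor_algHom_apply, PolLaw.lTensor_algHom_apply]
  unfold SymTen.tpowLaw
  rw [PolLaw.MulLaw.prodMap_toFun', PolLaw.MulLaw.prodMap_toFun', map_prod]
  refine Finset.prod_congr rfl fun j _ => ?_
  rw [← AlgHom.comp_apply, ← AlgHom.comp_apply, ← Algebra.TensorProduct.map_comp,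
    ← Algebra.TensorProduct.map_comp, hcomp j]

variable (φ' : C →ₐ[A] (⨂[A] _ : Fin d, B))
  (hφ' : PolLaw.postcomp φ'.toLinearMap γ.law = (SymTen.tpowLaw A B d).law)

include hφ' in
theorem postcomp_precomp_eq :
    PolLaw.postcomp φ'.toLinearMap (γ.precomp (piP A B)).law =
      PolLaw.postcomp (SymTen.tmap A d (piP A B)).toLinearMap
        (SymTen.tpowLaw A (MvPolynomial B A) d).law := by
  refine PolynomialLaw.ext ?_
  funext S _ _ z
  show φ'.toLinearMap.lTensor S (γ.law.toFun' S ((piP A B).toLinearMap.lTensor S z)) =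
    (SymTen.tmap A d (piP A B)).toLinearMap.lTensor S
      ((SymTen.tpowLaw A (MvPolynomial B A) d).law.toFun' S z)
  rw [tmap_tpowLaw, ← hφ']
  rfl

include hφ' in
/-- composing the norm law with `φ'` gives the symmetrisation law -/
theorem postcomp_normLaw :
    PolLaw.postcomp φ'.toLinearMap (normLaw γ) = (SymTen.symmLaw A B d).law := by
  apply law_ext_mvPolynomial
  intro n y
  obtain ⟨z, rfl⟩ := LinearMap.lTensor_surjective (MvPolynomial (Fin n) A)
    (g := (SymTen.tmap A d (piP A B)).toLinearMap) (tmap_surjective _ piP_surjective) y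
  show φ'.toLinearMap.lTensor _ ((normLaw γ).toFun' _ _) = _
  rw [normLaw_spec, upLaw, symLin_toFun',
    phi_lin_SD _ _ (piP A B) φ' (postcomp_precomp_eq γ φ' hφ')
      (symmLaw_mem_SD (MvPolynomial.basisMonomials B A) n z), tmap_symmLaw]

include hφ' in
/-- the norm law on elements of the base changed coefficient span of the presentation -/
theorem normLaw_phi_lin (S : Type u) [CommSemiring S] [Algebra A S]
    {u : S ⊗[A] (⨂[A] _ : Fin d, MvPolynomial B A)} (hu : u ∈ SD S (MvPolynomial B A) d) :
    (normLaw γ).toFun' S (φ'.toLinearMap.lTensor S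
      ((linFactor (MvPolynomial.basisMonomials B A) (γ.precomp (piP A B)).law d).lTensor S u)) =
      ((linFactor (MvPolynomial.basisMonomials B A) (γ.precomp (piP A B)).law d).lTensor S u) ^
        d.factorial := by
  rw [phi_lin_SD _ _ (piP A B) φ' (postcomp_precomp_eq γ φ' hφ') hu, normLaw_spec, upLaw,
    symLin_toFun', symmLaw_of_invariant S u (fun σ => perm_SD σ hu), lin_pow _ _ hu]

include hφ' in
/-- for the universal law, the norm law composed with `φ'` is the `d!`-th power law -/
theorem precomp_normLaw (hγ : PolLaw.IsGammaD γ) :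
    PolLaw.precomp (normLaw γ) φ'.toLinearMap = PolLaw.powLaw (A := A) (B := C) d.factorial := by
  refine PolynomialLaw.ext ?_
  funext S _ _ c
  obtain ⟨u, hu, rfl⟩ := lin_surjective_SD (MvPolynomial.basisMonomials B A) γ hγ (piP A B)
    piP_surjective S c
  exact normLaw_phi_lin γ φ' hφ' S hu

include hφ' in
/-- on elements: `φ' (N z) = ∏ σ, σ z` -/
theorem normLaw_ground (z : ⨂[A] _ : Fin d, B) :
    φ' ((normLaw γ).ground z) = ∏ σ : Equiv.Perm (Fin d), SymTen.perm A B d σ z := by
  have h := postcomp_normLaw γ φ' hφ'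
  have h1 := congrArg (fun F : (⨂[A] _ : Fin d, B) →ₚₗ[A] (⨂[A] _ : Fin d, B) =>
    F.toFun' A ((1 : A) ⊗ₜ[A] z)) h
  beta_reduce at h1
  have h2 : (PolLaw.postcomp φ'.toLinearMap (normLaw γ)).toFun' A ((1 : A) ⊗ₜ[A] z) =
      φ'.toLinearMap.lTensor A ((normLaw γ).toFun' A ((1 : A) ⊗ₜ[A] z)) := rfl
  rw [h2, symmLaw_toFun'] at h1
  have h3 : ∀ w : A ⊗[A] C, φ' (TensorProduct.lid A C w) =
      TensorProduct.lid A _ (φ'.toLinearMap.lTensor A w) := by
    intro w
    induction w using TensorProduct.induction_on with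
    | zero => simp
    | tmul a c =>
      rw [LinearMap.lTensor_tmul, TensorProduct.lid_tmul, TensorProduct.lid_tmul, map_smul]
      rfl
    | add x y hx hy => simp only [map_add, hx, hy]
  rw [PolynomialLaw.ground_apply, h3, h1]
  simp only [Algebra.TensorProduct.map_tmul, AlgHom.id_apply]
  rw [prod_tmul, Finset.prod_const_one, TensorProduct.lid_tmul, one_smul]

end Norm

section TS

variable {A : Type u} [CommRing A] {B : Type u} [CommRing B] [Algebra A B] {C : Type u}
  [CommRing C] [Algebra A C] {d : ℕ} (γ : PolLaw.MulLaw A B C d)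

/-- the norm law restricted to symmetric tensors -/
noncomputable def normTS : PolLaw.MulLaw A (SymTen.TS A B d) C d.factorial :=
  (normMulLaw γ).precomp (SymTen.TS A B d).val

theorem perm_val_lTensor (S : Type u) [CommSemiring S] [Algebra A S] (σ : Equiv.Perm (Fin d))
    (y : S ⊗[A] SymTen.TS A B d) :
    (SymTen.perm A B d σ).toLinearMap.lTensor S
      ((SymTen.TS A B d).val.toLinearMap.lTensor S y) =
      (SymTen.TS A B d).val.toLinearMap.lTensor S y := by
  induction y using TensorProduct.induction_on with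
  | zero => simp
  | tmul s t =>
    rw [LinearMap.lTensor_tmul, LinearMap.lTensor_tmul, AlgHom.toLinearMap_apply,
      AlgHom.toLinearMap_apply]
    congr 1
    rw [SymTen.perm_apply]
    exact t.2 σ
  | add a b ha hb => simp only [map_add, ha, hb]

variable (φ : C →ₐ[A] SymTen.TS A B d)
  (hφ : PolLaw.postcomp ((SymTen.TS A B d).val.comp φ).toLinearMap γ.law =
    (SymTen.tpowLaw A B d).law)

include hφ in
theorem postcomp_normTS :
    PolLaw.MulLaw.postcomp φ (normTS γ) = PolLaw.MulLaw.pow A (SymTen.TS A B d) d.factorial := by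
  apply PolLaw.MulLaw.ext
  apply law_ext_mvPolynomial
  intro n y
  show φ.toLinearMap.lTensor _ ((normLaw γ).toFun' _
    ((SymTen.TS A B d).val.toLinearMap.lTensor _ y)) = y ^ d.factorial
  have hinj : Function.Injective
      ((SymTen.TS A B d).val.toLinearMap.lTensor (MvPolynomial (Fin n) A)) :=
    Module.Flat.lTensor_preserves_injective_linearMap _ Subtype.val_injective
  apply hinj
  have h := postcomp_normLaw γ ((SymTen.TS A B d).val.comp φ) hφ
  have h1 := congrArg (fun F : (⨂[A] _ : Fin d, B) →ₚₗ[A] (⨂[A] _ : Fin d, B) =>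
    F.toFun' (MvPolynomial (Fin n) A) ((SymTen.TS A B d).val.toLinearMap.lTensor _ y)) h
  beta_reduce at h1
  have h2 : (SymTen.TS A B d).val.toLinearMap.lTensor (MvPolynomial (Fin n) A)
      (φ.toLinearMap.lTensor _ ((normLaw γ).toFun' _
        ((SymTen.TS A B d).val.toLinearMap.lTensor _ y))) =
      (PolLaw.postcomp ((SymTen.TS A B d).val.comp φ).toLinearMap (normLaw γ)).toFun'
        (MvPolynomial (Fin n) A) ((SymTen.TS A B d).val.toLinearMap.lTensor _ y) := by
    show _ = ((SymTen.TS A B d).val.comp φ).toLinearMap.lTensor _ _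
    rw [AlgHom.comp_toLinearMap, LinearMap.lTensor_comp, LinearMap.comp_apply]
  rw [h2, h1, symmLaw_of_invariant _ _ (fun σ => perm_val_lTensor _ σ y),
    PolLaw.lTensor_algHom_apply, PolLaw.lTensor_algHom_apply, map_pow]

include hφ in
theorem precomp_normTS (hγ : PolLaw.IsGammaD γ) :
    PolLaw.MulLaw.precomp (normTS γ) φ = PolLaw.MulLaw.pow A C d.factorial := by
  apply PolLaw.MulLaw.ext
  have h := precomp_normLaw γ ((SymTen.TS A B d).val.comp φ) hφ hγ
  refine PolynomialLaw.ext ?_
  funext S _ _ c
  have h1 := congrArg (fun F : C →ₚₗ[A] C => F.toFun' S c) h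
  beta_reduce at h1
  show (normLaw γ).toFun' S ((SymTen.TS A B d).val.toLinearMap.lTensor S
    (φ.toLinearMap.lTensor S c)) = c ^ d.factorial
  rw [← LinearMap.comp_apply, ← LinearMap.lTensor_comp, ← AlgHom.comp_toLinearMap]
  exact h1

/-- the hypothesis on `φ` used in the statements, in law form -/
theorem postcomp_eq_tpowLaw_of_forall
    (hφ : ∀ (S : Type u) [CommSemiring S] [Algebra A S] (n : ℕ) (s : Fin n → S) (b : Fin n → B),
      ((SymTen.TS A B d).val.comp φ).toLinearMap.lTensor S
          (γ.law.toFun' S (∑ j, s j ⊗ₜ[A] b j)) =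
        ∑ c : Fin d → Fin n, (∏ i, s (c i)) ⊗ₜ[A] PiTensorProduct.tprod A (fun i => b (c i))) :
    PolLaw.postcomp ((SymTen.TS A B d).val.comp φ).toLinearMap γ.law =
      (SymTen.tpowLaw A B d).law := by
  refine PolynomialLaw.ext ?_
  funext S _ _ y
  obtain ⟨n, s, m, rfl⟩ := exists_sum_tmul_fin S y
  show ((SymTen.TS A B d).val.comp φ).toLinearMap.lTensor S
    (γ.law.toFun' S (∑ j, s j ⊗ₜ[A] m j)) = _
  rw [hφ S n s m]
  have := tpowLaw_sum (A := A) (B := B) (d := d) S s m Finset.univ
  rw [Fintype.piFinset_univ] at this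
  exact this.symm

end TS

end Groth.Agent.Lib.Helper16.NormLaw
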