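import Groth.Agent.Lib.Helper16.NormLaw.Main
import Groth.Agent.Lib.Helper16.NormLaw.BCTensor
import Groth.Agent.Lib.Helper70.SpecUnivHomeo

/-!
# `Spec TS^d_A(B) → Spec Γ^d_A(B)` is a universal homeomorphism with trivial residue field
extensions (helper16)
-/

set_option autoImplicit false
set_option linter.style.haveILetI false

namespace Groth.Agent.Lib.Helper16.NormLaw

open scoped TensorProduct
open Groth.Agent.Lib.Helper25.PolLawCoeff
open AlgebraicGeometry CategoryTheory

universe u

theorem eq_of_X_add_C_pow_eq {L : Type*} [Field L] {a b : L} {n : ℕ} (hn : n ≠ 0)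
    (h : (Polynomial.X + Polynomial.C a) ^ n = (Polynomial.X + Polynomial.C b) ^ n) : a = b := by
  have h1 := congrArg (Polynomial.eval (-a)) h
  simp only [Polynomial.eval_pow, Polynomial.eval_add, Polynomial.eval_X, Polynomial.eval_C] at h1
  rw [neg_add_cancel, zero_pow hn] at h1
  have h2 := (pow_eq_zero_iff hn).1 h1.symm
  linear_combination -h2

section UH
variable {A B C : Type u} [CommRing A] [CommRing B] [Algebra A B] [CommRing C] [Algebra A C]
  {d : ℕ} (γ : PolLaw.MulLaw A B C d) (φ : C →ₐ[A] SymTen.TS A B d)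

/-- Two field-valued points of `TS^d_A(B)` which agree on `Γ^d_A(B)` are equal. -/
theorem algHom_field_ext
    (hlaw : PolLaw.postcomp ((SymTen.TS A B d).val.comp φ).toLinearMap γ.law =
      (SymTen.tpowLaw A B d).law)
    {L : Type u} [Field L] [Algebra A L]
    (g₁ g₂ : SymTen.TS A B d →ₐ[A] L) (h : g₁.comp φ = g₂.comp φ) : g₁ = g₂ := by
  have h1 := postcomp_normTS γ φ hlaw
  set F := normTS γ with hF
  ext y
  let S := Polynomial L
  let z : S ⊗[A] SymTen.TS A B d := (Polynomial.X : S) ⊗ₜ[A] 1 + (1 : S) ⊗ₜ[A] y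
  have h3 := congrArg (fun G : PolLaw.MulLaw A (SymTen.TS A B d) (SymTen.TS A B d) d.factorial =>
      G.law.toFun' S z) h1
  beta_reduce at h3
  have h4 : (PolLaw.MulLaw.postcomp φ F).law.toFun' S z =
      φ.toLinearMap.lTensor S (F.law.toFun' S z) := rfl
  have h5 : (PolLaw.MulLaw.pow A (SymTen.TS A B d) d.factorial).law.toFun' S z =
      z ^ d.factorial := rfl
  rw [h4, h5] at h3
  let e : (SymTen.TS A B d →ₐ[A] L) → (S ⊗[A] SymTen.TS A B d →ₐ[A] S) := fun g =>
    Algebra.TensorProduct.productMap (AlgHom.id A S) ((IsScalarTower.toAlgHom A L S).comp g)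
  have he : ∀ g, e g z = Polynomial.X + Polynomial.C (g y) := by
    intro g
    simp only [e, z, map_add, Algebra.TensorProduct.productMap_apply_tmul, AlgHom.id_apply,
      map_one, mul_one, one_mul, AlgHom.coe_comp, Function.comp_apply,
      IsScalarTower.coe_toAlgHom']
    rfl
  have key : ∀ w : S ⊗[A] C,
      e g₁ (φ.toLinearMap.lTensor S w) = e g₂ (φ.toLinearMap.lTensor S w) := by
    intro w
    induction w using TensorProduct.induction_on with
    | zero => simp
    | tmul s c =>
      rw [LinearMap.lTensor_tmul]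
      simp only [e, Algebra.TensorProduct.productMap_apply_tmul, AlgHom.coe_comp,
        Function.comp_apply, AlgHom.toLinearMap_apply]
      have : g₁ (φ c) = g₂ (φ c) := DFunLike.congr_fun h c
      rw [this]
    | add x y hx hy => simp only [map_add, hx, hy]
  have h6 := key (F.law.toFun' S z)
  rw [h3, map_pow, map_pow, he, he] at h6
  exact eq_of_X_add_C_pow_eq (Nat.factorial_ne_zero d) h6

theorem ringHom_field_ext
    (hlaw : PolLaw.postcomp ((SymTen.TS A B d).val.comp φ).toLinearMap γ.law =
      (SymTen.tpowLaw A B d).law)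
    {L : Type u} [Field L] (g₁ g₂ : SymTen.TS A B d →+* L)
    (h : g₁.comp φ.toRingHom = g₂.comp φ.toRingHom) : g₁ = g₂ := by
  let _ : Algebra A L := (g₁.comp (algebraMap A (SymTen.TS A B d))).toAlgebra
  let g₁' : SymTen.TS A B d →ₐ[A] L := { g₁ with commutes' := fun a => rfl }
  have hc : ∀ a : A, g₂ (algebraMap A (SymTen.TS A B d) a) =
      g₁ (algebraMap A (SymTen.TS A B d) a) := by
    intro a
    rw [← φ.commutes a]
    exact (DFunLike.congr_fun h (algebraMap A C a)).symm
  let g₂' : SymTen.TS A B d →ₐ[A] L := { g₂ with commutes' := hc }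
  have := algHom_field_ext γ φ hlaw g₁' g₂' (by
    ext c
    exact DFunLike.congr_fun h c)
  ext y
  exact DFunLike.congr_fun this y

end UH

section Main
variable {A B C : Type u} [CommRing A] [CommRing B] [Algebra A B] [CommRing C] [Algebra A C]
  {d : ℕ} (γ : PolLaw.MulLaw A B C d) (φ : C →ₐ[A] SymTen.TS A B d)

/-- `Spec TS^d_A(B) → Spec Γ^d_A(B)` is a universal homeomorphism -/
theorem isUnivHomeo_spec (hker : ∀ x : C, φ x = 0 → x ^ d.factorial = 0)
    (hpow : ∀ y : SymTen.TS A B d, y ^ d.factorial ∈ φ.range)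
    (hlaw : PolLaw.postcomp ((SymTen.TS A B d).val.comp φ).toLinearMap γ.law =
      (SymTen.tpowLaw A B d).law) :
    FlatMor.IsUnivHomeo (Spec.map (CommRingCat.ofHom φ.toRingHom)) := by
  have hint : φ.toRingHom.IsIntegral := by
    intro y
    obtain ⟨c, hc⟩ := hpow y
    letI := φ.toRingHom.toAlgebra
    have h1 : IsIntegral C (y ^ d.factorial) := by
      rw [← hc]
      exact isIntegral_algebraMap (R := C) (A := SymTen.TS A B d) (x := c)
    exact IsIntegral.of_pow (Nat.factorial_pos d) h1
  haveI : IsIntegralHom (Spec.map (CommRingCat.ofHom φ.toRingHom)) :=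
    IsIntegralHom.SpecMap_iff.mpr hint
  haveI : Surjective (Spec.map (CommRingCat.ofHom φ.toRingHom)) := by
    constructor
    intro q
    letI := φ.toRingHom.toAlgebra
    haveI : Algebra.IsIntegral C (SymTen.TS A B d) := ⟨hint⟩
    haveI := q.isPrime
    have hk : (⊥ : Ideal (SymTen.TS A B d)).comap (algebraMap C (SymTen.TS A B d)) ≤
        q.asIdeal := by
      rw [← RingHom.ker_eq_comap_bot]
      intro x hx
      exact (nilradical_le_prime q.asIdeal) (mem_nilradical.mpr ⟨d.factorial, hker x hx⟩)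
    obtain ⟨Q, -, hQ, hQ'⟩ := Ideal.exists_ideal_over_prime_of_isIntegral q.asIdeal ⊥ hk
    exact ⟨⟨Q, hQ⟩, PrimeSpectrum.ext hQ'⟩
  haveI : UniversallyInjective (Spec.map (CommRingCat.ofHom φ.toRingHom)) := by
    apply ((tfae_universallyInjective (Spec.map (CommRingCat.ofHom φ.toRingHom))).out 1 0).mp
    intro K _ g₁ g₂ hg
    have hg' : g₁ ≫ Spec.map (CommRingCat.ofHom φ.toRingHom) =
        g₂ ≫ Spec.map (CommRingCat.ofHom φ.toRingHom) := hg
    rw [← Spec.map_preimage g₁, ← Spec.map_preimage g₂, ← Spec.map_comp, ← Spec.map_comp] at hg'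
    have h2 := Spec.map_injective hg'
    have h3 : (Spec.preimage g₁).hom.comp φ.toRingHom = (Spec.preimage g₂).hom.comp φ.toRingHom :=
      congrArg CommRingCat.Hom.hom h2
    have h4 := ringHom_field_ext γ φ hlaw _ _ h3
    rw [← Spec.map_preimage g₁, ← Spec.map_preimage g₂]
    congr 1
    exact CommRingCat.hom_ext h4
  exact Groth.Agent.Lib.Helper70.SpecUH.isUnivHomeo_of _

/-- the residue field extensions of `Spec TS^d_A(B) → Spec Γ^d_A(B)` are trivial -/
theorem residueField_map_surjective (hγ : PolLaw.IsGammaD γ)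
    (hlaw : PolLaw.postcomp ((SymTen.TS A B d).val.comp φ).toLinearMap γ.law =
      (SymTen.tpowLaw A B d).law)
    (q : PrimeSpectrum (SymTen.TS A B d)) :
    Function.Surjective (Ideal.ResidueField.map (PrimeSpectrum.comap φ.toRingHom q).asIdeal
      q.asIdeal φ.toRingHom rfl) := by
  set p := (PrimeSpectrum.comap φ.toRingHom q).asIdeal with hp
  let K := p.ResidueField
  let ψ : C →ₐ[A] K := IsScalarTower.toAlgHom A C K
  let F : PolLaw.MulLaw A B K d := PolLaw.MulLaw.postcomp ψ γ
  let bas := Module.Free.chooseBasis K (K ⊗[A] B)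
  let θ := pointTS bas F
  have hθ : PolLaw.postcomp (θ.comp φ).toLinearMap γ.law = F.law :=
    postcomp_pointTS_comp bas F γ φ hlaw
  have hψ : PolLaw.postcomp ψ.toLinearMap γ.law = F.law := rfl
  have huniq : θ.comp φ = ψ := (hγ K F).unique hθ hψ
  set ι := Ideal.ResidueField.map p q.asIdeal φ.toRingHom rfl with hι
  have hcomp : (algebraMap (SymTen.TS A B d) q.asIdeal.ResidueField).comp φ.toRingHom =
      (ι.comp θ.toRingHom).comp φ.toRingHom := by
    ext c
    show algebraMap _ _ (φ c) = ι (θ (φ c))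
    have : θ (φ c) = algebraMap C K c := DFunLike.congr_fun huniq c
    rw [this]
    exact (Ideal.ResidueField.map_algebraMap p q.asIdeal φ.toRingHom rfl c).symm
  have heq := ringHom_field_ext γ φ hlaw _ _ hcomp
  intro z
  obtain ⟨x, y, hy, rfl⟩ := IsFractionRing.div_surjective (A := SymTen.TS A B d ⧸ q.asIdeal) z
  obtain ⟨x', rfl⟩ := Ideal.Quotient.mk_surjective x
  obtain ⟨y', rfl⟩ := Ideal.Quotient.mk_surjective y
  refine ⟨θ x' / θ y', ?_⟩
  rw [map_div₀, Ideal.algebraMap_quotient_residueField_mk,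
    Ideal.algebraMap_quotient_residueField_mk]
  have h1 := DFunLike.congr_fun heq x'
  have h2 := DFunLike.congr_fun heq y'
  rw [h1, h2]
  rfl

end Main

/-- surjectivity of the residue field map of `Spec.map φ` from the ring-level statement -/
theorem residueFieldMap_surjective_of {R S : CommRingCat.{u}} (f : R ⟶ S) (y : Spec S)
    (h : Function.Surjective (Ideal.ResidueField.map ((Spec.map f) y).asIdeal y.asIdeal f.hom rfl)) :
    Function.Surjective ((Spec.map f).residueFieldMap y).hom := by
  have hb := Groth.Agent.Lib.Helper70.SpecUH.residueFieldMap_Spec_bridge f y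
  have h2 : (Spec.map f).residueFieldMap y =
      (Scheme.Spec.residueFieldIso R ((Spec.map f) y)).hom ≫
      CommRingCat.ofHom (Ideal.ResidueField.map ((Spec.map f) y).asIdeal y.asIdeal f.hom rfl) ≫
      (Scheme.Spec.residueFieldIso S y).inv := by
    rw [← hb]
    simp
  rw [h2]
  simp only [CommRingCat.hom_comp, RingHom.coe_comp]
  refine Function.Surjective.comp (Function.Surjective.comp ?_ h) ?_
  · intro z
    refine ⟨(Scheme.Spec.residueFieldIso S y).hom.hom z, ?_⟩
    rw [← RingHom.comp_apply, ← CommRingCat.hom_comp, Iso.hom_inv_id]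
    rfl
  · intro z
    refine ⟨(Scheme.Spec.residueFieldIso R ((Spec.map f) y)).inv.hom z, ?_⟩
    rw [← RingHom.comp_apply, ← CommRingCat.hom_comp, Iso.inv_hom_id]
    rfl

end Groth.Agent.Lib.Helper16.NormLaw
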